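import Cfsg.Agent.EqualOrder.PSLCase
import Cfsg.Agent.EqualOrder.Socle
import Cfsg.Agent.AbCentMax.Final

/-!
A socle of Janko-Ree type: the centraliser of the involution acts faithfully, modulo the involution, on its
linear fractional part.
-/

set_option autoImplicit false
set_option linter.unusedSectionVars false
set_option linter.style.haveILetI false

namespace Cfsg.Lib.EqualOrder

open Subgroup
open scoped Pointwise commutatorElement

universe u

variable {G : Type u} [Group G] [Finite G]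

/-- The configuration. -/
structure JR (M : Subgroup G) [M.Normal] (t : ↥M) (E E₀ : Subgroup ↥M) (F : Type) [Field F] [Fintype F] :
    Prop where
  dp : PEqConj G
  cen : centralizer (M : Set G) = ⊥
  simple : IsSimpleGroup ↥M
  nab : ¬ IsMulCommutative ↥M
  odd : Odd M.index
  card8 : ∀ S : Sylow 2 ↥M, Nat.card ↥(S : Subgroup ↥M) = 8
  ab : ∀ S : Sylow 2 ↥M, IsMulCommutative ↥(S : Subgroup ↥M)
  five : 5 ≤ Fintype.card F
  modq : Fintype.card F % 8 = 3 ∨ Fintype.card F % 8 = 5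
  hyp : AbCentMax.Hyp t E E₀ F

variable {M : Subgroup G} [M.Normal] {t : ↥M} {E E₀ : Subgroup ↥M} {F : Type} [Field F] [Fintype F]
  (h : JR M t E E₀ F)
include h

theorem JR.conj_t {v : ↥M} (hv : orderOf v = 2) : ∃ m : ↥M, m * t * m⁻¹ = v := by
  classical
  haveI : Fact (Nat.Prime 2) := ⟨Nat.prime_two⟩
  haveI := h.simple
  obtain ⟨T, a, b, n, S⟩ := AbCentMax.exists_sys h.hyp h.ab
  have hall : ∀ x ∈ T, x ≠ 1 → ∃ g, g * t * g⁻¹ = x := by
    rcases AbCentMax.orbit_dichotomy h.hyp S (H := ⊤) (fun _ _ => mem_top _) with hiso | ⟨h1, -⟩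
    · exfalso
      obtain ⟨N, hN, hNo, hcomm⟩ := Cfsg.Agent.S0215.result T t h.hyp.ord S.tT (fun g => hiso g (mem_top g))
      rcases IsSimpleGroup.eq_bot_or_eq_top_of_normal N hN with e | e
      · have hc : t ∈ center ↥M := mem_center_iff.2 fun g => by
          have := hcomm g
          rw [e, mem_bot, mul_inv_eq_one] at this
          exact (mul_inv_eq_iff_eq_mul.1 this).symm
        rcases IsSimpleGroup.eq_bot_or_eq_top_of_normal (center ↥M) inferInstance with hz | hz
        · exact h.hyp.t_ne (mem_bot.1 (hz ▸ hc))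
        · exact h.nab ⟨⟨fun x y => mem_center_iff.1 (hz ▸ mem_top y : y ∈ center ↥M) x⟩⟩
      · rw [e, card_top] at hNo
        exact Nat.not_even_iff_odd.2 hNo (even_iff_two_dvd.2 (Dvd.dvd.trans (by norm_num : 2 ∣ 8)
          (h.card8 T ▸ card_subgroup_dvd_card _)))
    · exact fun x hx hx1 => let ⟨g, _, _, hg⟩ := h1 x hx hx1; ⟨g, hg⟩
  obtain ⟨P, hP⟩ := (IsPGroup.of_card (G := zpowers v) (n := 1)
    (by rw [Nat.card_zpowers, hv, pow_one])).exists_le_sylow
  obtain ⟨k, hk⟩ := MulAction.exists_smul_eq ↥M P T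
  have hmem : k * v * k⁻¹ ∈ (T : Subgroup ↥M) := by
    rw [← hk, Sylow.coe_subgroup_smul]
    exact ⟨v, hP (mem_zpowers v), rfl⟩
  obtain ⟨g, hg⟩ := hall _ hmem (fun e => by
    rw [mul_inv_eq_one, mul_eq_left] at e
    rw [e, orderOf_one] at hv
    omega)
  exact ⟨k⁻¹ * g, by rw [show k⁻¹ * g * t * (k⁻¹ * g)⁻¹ = k⁻¹ * (g * t * g⁻¹) * k by group, hg]; group⟩

theorem JR.simple_E₀ : IsSimpleGroup ↥E₀ := by
  obtain ⟨f⟩ := h.hyp.iso
  haveI : IsSimpleGroup (Matrix.ProjectiveSpecialLinearGroup (Fin 2) F) :=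
    Matrix.ProjectiveSpecialLinearGroup.rank_two_simple (by rw [Nat.card_eq_fintype_card]; have := h.five; omega)
  haveI : Nontrivial ↥E₀ := f.toEquiv.nontrivial
  exact IsSimpleGroup.isSimpleGroup_of_surjective f.symm.toMonoidHom f.symm.surjective

theorem JR.card_E₀ : 2 * Nat.card ↥E₀ = Fintype.card F * (Fintype.card F ^ 2 - 1) := by
  obtain ⟨f⟩ := h.hyp.iso
  have := Cfsg.Lib.Classical.SmallPSL.card_psl (F := F) rfl
  have hodd := Nat.odd_iff.1 h.hyp.odd
  rw [Nat.gcd_eq_left (Nat.dvd_of_mod_eq_zero (by omega))] at this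
  rw [Nat.card_congr f.toEquiv, this]

theorem JR.four_dvd : 4 ∣ Nat.card ↥E₀ := by
  obtain ⟨q, hq⟩ : ∃ q, Fintype.card F = q := ⟨_, rfl⟩
  have h1 := h.card_E₀
  have h2 := Nat.odd_iff.1 h.hyp.odd
  rw [hq] at h1 h2
  obtain ⟨s, rfl⟩ : ∃ s, q = 2 * s + 1 := ⟨q / 2, by omega⟩
  obtain ⟨j, hj⟩ := Nat.even_mul_succ_self s
  rw [show (2 * s + 1) ^ 2 = 4 * (s * (s + 1)) + 1 by ring, Nat.add_sub_cancel, hj,
    show (2 * s + 1) * (4 * (j + j)) = 2 * (4 * ((2 * s + 1) * j)) by ring] at h1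
  exact ⟨(2 * s + 1) * j, Nat.eq_of_mul_eq_mul_left two_pos h1⟩

theorem JR.card_cent : Nat.card ↥(centralizer ({t} : Set ↥M)) = 2 * Nat.card ↥E := by
  classical
  have hmem : ∀ (b : Bool) (e : ↥E), (cond b t 1) * (e : ↥M) ∈ centralizer ({t} : Set ↥M) := fun b e => by
    refine mem_centralizer_singleton_iff.2 ?_
    cases b
    · simpa using (h.hyp.comm _ e.2).eq.symm
    · exact ((Commute.refl t).mul_left (h.hyp.comm _ e.2).symm).eq
  rw [show 2 * Nat.card ↥E = Nat.card (Bool × ↥E) by rw [Nat.card_prod, Nat.card_eq_fintype_card (α := Bool)]; rfl]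
  refine (Nat.card_eq_of_bijective (fun p : Bool × ↥E => (⟨_, hmem p.1 p.2⟩ : ↥(centralizer ({t} : Set ↥M))))
    ⟨?_, ?_⟩).symm
  · rintro ⟨a, x⟩ ⟨b, y⟩ e
    have e' : cond a t 1 * (x : ↥M) = cond b t 1 * (y : ↥M) := congrArg Subtype.val e
    rcases a <;> rcases b <;> simp only [cond_true, cond_false, one_mul] at e'
    · exact Prod.ext rfl (Subtype.ext e')
    · exfalso
      have hh : t = (x : ↥M) * (y : ↥M)⁻¹ := by rw [e']; group
      exact h.hyp.disj (hh ▸ mul_mem x.2 (inv_mem y.2))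
    · exfalso
      have hh : t = (y : ↥M) * (x : ↥M)⁻¹ := by rw [← e']; group
      exact h.hyp.disj (hh ▸ mul_mem y.2 (inv_mem x.2))
    · exact Prod.ext rfl (Subtype.ext (mul_left_cancel e'))
  · rintro ⟨x, hx⟩
    obtain ⟨e, he, r | r⟩ := h.hyp.split x (mem_centralizer_singleton_iff.1 hx)
    · exact ⟨(false, ⟨e, he⟩), Subtype.ext (by simp [r])⟩
    · exact ⟨(true, ⟨e, he⟩), Subtype.ext (by simp [r])⟩

theorem JR.odd_relIndex : Odd (E₀.relIndex E) := by
  haveI : Fact (Nat.Prime 2) := ⟨Nat.prime_two⟩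
  refine Nat.not_even_iff_odd.1 fun he => ?_
  have h16 : 2 ^ 4 ∣ Nat.card ↥M := by
    refine Dvd.dvd.trans ?_ (card_subgroup_dvd_card (centralizer ({t} : Set ↥M)))
    rw [h.card_cent]
    have hc : Nat.card ↥E = Nat.card ↥E₀ * E₀.relIndex E := by
      rw [← Nat.card_congr (subgroupOfEquivOfLe h.hyp.le).toEquiv]
      exact (card_mul_index _).symm
    rw [hc]
    rw [show (2 : ℕ) ^ 4 = 2 * (4 * 2) by norm_num]
    exact Nat.mul_dvd_mul (dvd_refl 2) (Nat.mul_dvd_mul h.four_dvd he.two_dvd)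
  obtain ⟨S⟩ : Nonempty (Sylow 2 ↥M) := inferInstance
  have := S.pow_dvd_card_of_pow_dvd_card h16
  rw [h.card8 S] at this
  norm_num at this

theorem JR.normal_in_E : (E₀.subgroupOf E).Normal := ⟨fun x hx e => h.hyp.norm e e.2 x hx⟩

theorem JR.mem_E₀_of_order {e : ↥M} (he : e ∈ E) (hn : (orderOf e).Coprime (E₀.relIndex E)) : e ∈ E₀ := by
  haveI := h.normal_in_E
  have h1 : orderOf (QuotientGroup.mk' (E₀.subgroupOf E) ⟨e, he⟩) ∣ orderOf e := by
    refine (orderOf_map_dvd _ _).trans ?_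
    rw [Subgroup.orderOf_mk]
  have h2 : orderOf (QuotientGroup.mk' (E₀.subgroupOf E) ⟨e, he⟩) ∣ E₀.relIndex E := orderOf_dvd_natCard _
  exact (QuotientGroup.eq_one_iff (N := E₀.subgroupOf E) ⟨e, he⟩).1
    (orderOf_eq_one_iff.1 (Nat.eq_one_of_dvd_coprimes hn h1 h2))

theorem JR.comm_mem {x y : ↥M} (hx : Commute x t) (hy : Commute y t) : ⁅x, y⁆ ∈ E := by
  obtain ⟨e, he, hxe⟩ := h.hyp.split x hx
  obtain ⟨f, hf, hyf⟩ := h.hyp.split y hy
  have htc := h.hyp.comm
  have key : ⁅x, y⁆ = ⁅e, f⁆ := by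
    have hct : ∀ z : ↥M, Commute t z → ∀ w, ⁅t * z, w⁆ = t * ⁅z, w⁆ * t⁻¹ * ⁅t, w⁆ := fun z _ w => by
      simp only [commutatorElement_def]; group
    have h1 : ∀ (z : ↥M), Commute t z → ∀ w, Commute t w → ⁅t * z, w⁆ = ⁅z, w⁆ := fun z hz w hw => by
      rw [hct z hz, commutatorElement_eq_one_iff_mul_comm.2 hw.eq, mul_one]
      have hc : Commute t ⁅z, w⁆ := by
        rw [commutatorElement_def]
        exact ((hz.mul_right hw).mul_right hz.inv_right).mul_right hw.inv_right
      rw [hc.eq, mul_inv_cancel_right]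
    have h2 : ∀ (z : ↥M), Commute t z → ∀ w, Commute t w → ⁅w, t * z⁆ = ⁅w, z⁆ := fun z hz w hw => by
      rw [← commutatorElement_inv, h1 z hz w hw, commutatorElement_inv]
    rcases hxe with rfl | rfl <;> rcases hyf with rfl | rfl
    · rfl
    · exact h2 f (htc f hf) _ (htc _ he)
    · exact h1 e (htc e he) _ (htc _ hf)
    · rw [h1 e (htc e he) _ ((Commute.refl t).mul_right (htc f hf)), h2 f (htc f hf) _ (htc e he)]
  rw [key, commutatorElement_def]
  exact mul_mem (mul_mem (mul_mem he hf) (inv_mem he)) (inv_mem hf)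

/-- The centraliser of the involution normalises the linear fractional part. -/
theorem JR.conj_mem {c : G} (hc : Commute c (t : G)) {x : ↥M} (hx : x ∈ E₀) :
    (MulAut.conjNormal c : MulAut ↥M) x ∈ E₀ := by
  set φ : MulAut ↥M := MulAut.conjNormal c with hφ
  haveI := h.simple_E₀
  have hφt : φ t = t := Subtype.ext (by rw [hφ, MulAut.conjNormal_apply, hc.eq, mul_inv_cancel_right])
  have hperf : commutator ↥E₀ = ⊤ := by
    refine (IsSimpleGroup.eq_bot_or_eq_top_of_normal _ inferInstance).resolve_left fun hb => ?_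
    have hcomm : ∀ a b : ↥E₀, a * b = b * a := fun a b =>
      commutatorElement_eq_one_iff_mul_comm.1 (mem_bot.1 (hb ▸ commutator_mem_commutator (mem_top a) (mem_top b)))
    letI : CommGroup ↥E₀ := { (inferInstance : Group ↥E₀) with mul_comm := hcomm }
    have hp := IsSimpleGroup.prime_card (α := ↥E₀)
    have h4 := h.four_dvd
    obtain ⟨p, hp'⟩ : ∃ p, Nat.card ↥E₀ = p := ⟨_, rfl⟩
    rw [hp'] at hp h4
    have := (Nat.prime_dvd_prime_iff_eq Nat.prime_two hp).1 ((show 2 ∣ 4 by norm_num).trans h4)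
    omega
  have hK : E₀.map φ.toMonoidHom ≤ E := by
    have h1 : (E₀.map φ.toMonoidHom) = ⁅E₀.map φ.toMonoidHom, E₀.map φ.toMonoidHom⁆ := by
      rw [← map_commutator]
      congr 1
      have h2 := congrArg (Subgroup.map E₀.subtype) hperf
      rw [_root_.commutator_def, map_commutator, ← MonoidHom.range_eq_map, range_subtype] at h2
      exact h2.symm
    rw [h1, commutator_le]
    rintro _ ⟨a, ha, rfl⟩ _ ⟨b, hb, rfl⟩
    refine h.comm_mem ?_ ?_
    · have := ((h.hyp.comm a (h.hyp.le ha)).symm).map φ.toMonoidHom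
      simpa [hφt] using this
    · have := ((h.hyp.comm b (h.hyp.le hb)).symm).map φ.toMonoidHom
      simpa [hφt] using this
  obtain ⟨a, ha, ha2⟩ := exists_involution (M := E₀) ((show 2 ∣ 4 by norm_num).trans h.four_dvd)
  have hφa : φ a ∈ E₀ := h.mem_E₀_of_order (hK ⟨a, ha, rfl⟩) (by
    rw [MulEquiv.orderOf_eq, ha2]; exact Nat.coprime_two_left.2 h.odd_relIndex)
  haveI hn : (((E₀).comap φ.toMonoidHom).subgroupOf E₀).Normal := ⟨fun y hy g => by
    rw [mem_subgroupOf, mem_comap] at hy ⊢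
    push_cast
    rw [map_mul, map_mul, map_inv]
    exact h.hyp.norm _ (hK ⟨g, g.2, rfl⟩) _ hy⟩
  rcases IsSimpleGroup.eq_bot_or_eq_top_of_normal _ hn with e | e
  · exfalso
    have : (⟨a, ha⟩ : ↥E₀) ∈ ((E₀).comap φ.toMonoidHom).subgroupOf E₀ := hφa
    rw [e, mem_bot] at this
    rw [show a = 1 from congrArg Subtype.val this, orderOf_one] at ha2
    omega
  · exact subgroupOf_eq_top.1 e hx

/-- The action of the centraliser on the linear fractional part. -/
def JR.act : ↥(centralizer ({(t : G)} : Set G)) →* MulAut ↥E₀ where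
  toFun c :=
    { toFun := fun x => ⟨(MulAut.conjNormal (c : G) : MulAut ↥M) x,
        h.conj_mem (mem_centralizer_singleton_iff.1 c.2) x.2⟩
      invFun := fun x => ⟨(MulAut.conjNormal ((c : G)⁻¹) : MulAut ↥M) x,
        h.conj_mem (mem_centralizer_singleton_iff.1 (c⁻¹).2) x.2⟩
      left_inv := fun x => Subtype.ext (Subtype.ext (by simp [MulAut.conjNormal_apply, mul_assoc]))
      right_inv := fun x => Subtype.ext (Subtype.ext (by simp [MulAut.conjNormal_apply, mul_assoc]))
      map_mul' := fun x y => Subtype.ext (map_mul _ _ _) }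
  map_one' := MulEquiv.ext fun x => Subtype.ext (Subtype.ext (by simp [MulAut.conjNormal_apply]))
  map_mul' a b := MulEquiv.ext fun x => Subtype.ext (Subtype.ext (by simp [MulAut.conjNormal_apply, mul_assoc]))

theorem JR.act_apply (c : ↥(centralizer ({(t : G)} : Set G))) (x : ↥E₀) :
    (((h.act c x : ↥E₀) : ↥M) : G) = (c : G) * ((x : ↥M) : G) * (c : G)⁻¹ := rfl

theorem JR.orderOf_t : orderOf (t : G) = 2 := by rw [Subgroup.orderOf_coe]; exact h.hyp.ord

/-- A kernel element of the socle is `1` or `t`. -/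
theorem JR.ker_socle {c : ↥(centralizer ({(t : G)} : Set G))} (hc : h.act c = 1) (hM : (c : G) ∈ M) :
    (c : G) = 1 ∨ (c : G) = t := by
  set m : ↥M := ⟨c, hM⟩ with hm
  have hmt : Commute m t := Subtype.ext (mem_centralizer_singleton_iff.1 c.2)
  have hfix : ∀ x ∈ E₀, Commute m x := fun x hx => Subtype.ext (mul_inv_eq_iff_eq_mul.1
    ((h.act_apply c ⟨x, hx⟩).symm.trans (by rw [hc]; rfl)))
  obtain ⟨e, he, r | r⟩ := h.hyp.split m hmt
  · left
    have he1 : e = 1 := h.hyp.faith e he fun x hx => r ▸ hfix x hx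
    exact congrArg Subtype.val (r.trans he1)
  · right
    have he1 : e = 1 := h.hyp.faith e he fun x hx => by
      have h1 : Commute (t * e) x := r ▸ hfix x hx
      have h2 : e = t * (t * e) := by rw [← mul_assoc, h.hyp.tt, one_mul]
      rw [h2]
      exact Commute.mul_left (h.hyp.comm x (h.hyp.le hx)) h1
    rw [he1, mul_one] at r
    exact congrArg Subtype.val r

/-- Elements of prime odd order of the kernel are trivial. -/
theorem JR.ker_prime {c : ↥(centralizer ({(t : G)} : Set G))} (hc : h.act c = 1) {r : ℕ} (hr : r.Prime)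
    (hodd : r ≠ 2) : orderOf (c : G) ≠ r := by
  intro ho
  haveI := Fact.mk hr
  haveI := h.simple
  by_cases hrM : r ∣ Nat.card ↥M
  · obtain ⟨⟨x, hxM⟩, hx⟩ := exists_prime_orderOf_dvd_card' (G := ↥M) r hrM
    rw [Subgroup.orderOf_mk] at hx
    rcases h.ker_socle hc (h.dp.mem_of_prime_order hr hxM hx ho) with e | e
    · rw [e, orderOf_one] at ho; exact hr.one_lt.ne ho
    · rw [e, h.orderOf_t] at ho; exact hodd ho.symm
  set φ : MulAut ↥M := MulAut.conjNormal (c : G) with hφ
  have hφt : φ t = t :=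
    Subtype.ext (by rw [hφ, MulAut.conjNormal_apply, mem_centralizer_singleton_iff.1 c.2, mul_inv_cancel_right])
  have hfix₀ : ∀ x ∈ E₀, φ x = x := fun x hx => congrArg Subtype.val (DFunLike.congr_fun hc (⟨x, hx⟩ : ↥E₀))
  have hφr : φ ^ r = 1 := by rw [hφ, ← map_pow, ← ho, pow_orderOf_eq_one, map_one]
  have hfixE : ∀ e ∈ E, φ e = e := by
    intro e he
    have hct : Commute (φ e) t := by
      have := (h.hyp.comm e he).symm.map φ.toMonoidHom
      simpa [hφt] using this
    obtain ⟨f, hf, hff⟩ := h.hyp.split _ hct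
    have hconj : ∀ x ∈ E₀, φ e * x * (φ e)⁻¹ = e * x * e⁻¹ := fun x hx => by
      rw [← hfix₀ _ (h.hyp.norm e he x hx), map_mul, map_mul, map_inv, hfix₀ x hx]
    have hfe : e⁻¹ * f = 1 := by
      refine h.hyp.faith _ (mul_mem (inv_mem he) hf) fun x hx => ?_
      have h1 : f * x * f⁻¹ = e * x * e⁻¹ := by
        rcases hff with r' | r'
        · rw [← r']; exact hconj x hx
        · have h2 := hconj x hx
          rw [r', show t * f * x * (t * f)⁻¹ = t * (f * x * f⁻¹) * t⁻¹ by group,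
            (h.hyp.comm _ (h.hyp.le (h.hyp.norm f hf x hx))).eq, mul_inv_cancel_right] at h2
          exact h2
      show e⁻¹ * f * x = x * (e⁻¹ * f)
      calc e⁻¹ * f * x = e⁻¹ * (f * x * f⁻¹) * f := by group
        _ = x * (e⁻¹ * f) := by rw [h1]; group
    rw [inv_mul_eq_one] at hfe
    subst hfe
    rcases hff with r' | r'
    · exact r'
    exfalso
    have hk : ∀ k, (φ ^ k) e = t ^ k * e := by
      intro k
      induction k with
      | zero => simp
      | succ k ih => rw [pow_succ', MulAut.mul_apply, ih, map_mul, map_pow, hφt, r', ← mul_assoc, ← pow_succ]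
    have hr2 := hk r
    rw [hφr, MulAut.one_apply, right_eq_mul] at hr2
    have := orderOf_dvd_of_pow_eq_one hr2
    rw [h.hyp.ord] at this
    exact hodd ((Nat.prime_dvd_prime_iff_eq Nat.prime_two hr).1 this).symm
  set H : Subgroup ↥M := φ.toMonoidHom.eqLocus (MonoidHom.id ↥M) with hH
  have hCH : ∀ x, Commute x t → φ x = x := fun x hx => by
    obtain ⟨e, he, r' | r'⟩ := h.hyp.split x hx
    · rw [r']; exact hfixE e he
    · rw [r', map_mul, hφt, hfixE e he]
  -- an element moving `t`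
  obtain ⟨a, ha, ha2⟩ := exists_involution (M := E₀) ((show 2 ∣ 4 by norm_num).trans h.four_dvd)
  obtain ⟨g, hg⟩ := h.conj_t ha2
  have hgt : ¬ Commute g t := fun hc' => by
    rw [hc'.eq, mul_inv_cancel_right] at hg
    exact h.hyp.disj (hg ▸ h.hyp.le ha)
  set d := g⁻¹ * φ g with hd
  have hdt : Commute d t := by
    have h1 : φ g * t * (φ g)⁻¹ = a := by
      rw [show φ g * t * (φ g)⁻¹ = φ (g * t * g⁻¹) by rw [map_mul, map_mul, map_inv, hφt], hg, hfix₀ a ha]
    show d * t = t * d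
    rw [hd]
    calc g⁻¹ * φ g * t = g⁻¹ * (φ g * t * (φ g)⁻¹) * φ g := by group
      _ = t * (g⁻¹ * φ g) := by rw [h1, ← hg]; group
  have hpow : ∀ k, (φ ^ k) g = g * d ^ k := by
    intro k
    induction k with
    | zero => simp
    | succ k ih =>
      rw [pow_succ', MulAut.mul_apply, ih, map_mul, map_pow, hCH d hdt, show φ g = g * d by rw [hd]; group,
        mul_assoc, ← pow_succ']
  have hd1 : d = 1 := by
    have h1 := hpow r
    rw [hφr, MulAut.one_apply, left_eq_mul] at h1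
    rcases (Nat.dvd_prime hr).1 (orderOf_dvd_of_pow_eq_one h1) with e | e
    · exact orderOf_eq_one_iff.1 e
    · exact absurd (e ▸ orderOf_dvd_natCard d) hrM
  have hgH : g ∈ H := by
    show φ g = g
    rw [show φ g = g * d by rw [hd]; group, hd1, mul_one]
  have hle : centralizer ({t} : Set ↥M) ≤ H := fun x hx => hCH x (mem_centralizer_singleton_iff.1 hx)
  have htop : H = ⊤ := (AbCentMax.centralizer_isCoatom h.nab h.hyp h.ab).2 H
    (lt_of_le_of_ne hle fun e => hgt (mem_centralizer_singleton_iff.1 (e ▸ hgH)))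
  have hcM : (c : G) ∈ centralizer (M : Set G) := by
    refine mem_centralizer_iff.2 fun x hx => ?_
    have h1 : φ (⟨x, hx⟩ : ↥M) = ⟨x, hx⟩ := (htop ▸ mem_top (⟨x, hx⟩ : ↥M) : _ ∈ H)
    exact (mul_inv_eq_iff_eq_mul.1 ((MulAut.conjNormal_apply _ _).symm.trans (congrArg Subtype.val h1))).symm
  rw [h.cen, mem_bot] at hcM
  rw [hcM, orderOf_one] at ho
  exact hr.one_lt.ne ho

theorem JR.ker_cases {c : ↥(centralizer ({(t : G)} : Set G))} (hc : h.act c = 1) :
    (c : G) = 1 ∨ (c : G) = t := by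
  refine h.ker_socle hc ?_
  obtain ⟨k, m, hm, hkm⟩ := Nat.exists_eq_two_pow_mul_odd (orderOf_pos (c : G)).ne'
  have hm1 : m = 1 := by
    by_contra hm1
    obtain ⟨r, hr, hrm⟩ := Nat.exists_prime_and_dvd hm1
    have hrd : r ∣ orderOf (c : G) := hrm.trans ⟨2 ^ k, by rw [hkm, mul_comm]⟩
    refine h.ker_prime (c := c ^ (orderOf (c : G) / r)) (by rw [map_pow, hc, one_pow]) hr
      (fun e => (Nat.not_even_iff_odd.2 hm) (even_iff_two_dvd.2 (e ▸ hrm))) ?_
    push_cast
    exact orderOf_pow_orderOf_div (orderOf_pos _).ne' hrd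
  rw [hm1, mul_one] at hkm
  refine (QuotientGroup.eq_one_iff (N := M) (c : G)).1 (orderOf_eq_one_iff.1 ?_)
  refine Nat.eq_one_of_dvd_coprimes ?_ ((orderOf_map_dvd (QuotientGroup.mk' M) (c : G)).trans hkm.dvd)
    (orderOf_dvd_natCard _)
  exact (Nat.coprime_two_left.2 h.odd).pow_left k

theorem JR.card_ker : Nat.card ↥h.act.ker = 2 := by
  have htC : (t : G) ∈ centralizer ({(t : G)} : Set G) := mem_centralizer_singleton_iff.2 rfl
  have htker : (⟨(t : G), htC⟩ : ↥(centralizer ({(t : G)} : Set G))) ∈ h.act.ker :=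
    MulEquiv.ext fun x => Subtype.ext (Subtype.ext ((h.act_apply _ _).trans (by
      have hc : (t : G) * ((x : ↥M) : G) = ((x : ↥M) : G) * (t : G) :=
        congrArg Subtype.val (h.hyp.comm x (h.hyp.le x.2)).eq
      show (t : G) * ((x : ↥M) : G) * (t : G)⁻¹ = ((x : ↥M) : G)
      rw [hc, mul_inv_cancel_right])))
  have heq : h.act.ker = zpowers (⟨(t : G), htC⟩ : ↥(centralizer ({(t : G)} : Set G))) := by
    refine le_antisymm (fun c hc => ?_) (zpowers_le.2 htker)
    rcases h.ker_cases (MonoidHom.mem_ker.1 hc) with e | e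
    · rw [show c = 1 from Subtype.ext e]; exact one_mem _
    · rw [show c = ⟨(t : G), htC⟩ from Subtype.ext e]; exact mem_zpowers _
  rw [heq, Nat.card_zpowers, Subgroup.orderOf_mk, h.orderOf_t]

theorem JR.card_act : Nat.card ↥h.act.range = M.index * Nat.card ↥E := by
  set C := centralizer ({(t : G)} : Set G) with hC
  have h1 : Nat.card ↥C = 2 * Nat.card ↥h.act.range := by
    rw [← h.act.ker.card_mul_index, h.card_ker, index_ker]
  have htop : C ⊔ M = ⊤ := by
    refine eq_top_iff.2 fun g _ => ?_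
    obtain ⟨m, hm⟩ := h.conj_t (v := (MulAut.conjNormal g : MulAut ↥M) t) (by rw [MulEquiv.orderOf_eq]; exact h.hyp.ord)
    have hm' : (m : G) * t * (m : G)⁻¹ = g * t * g⁻¹ :=
      (congrArg Subtype.val hm).trans (MulAut.conjNormal_apply g t)
    have hmem : (m : G)⁻¹ * g ∈ C := by
      refine mem_centralizer_singleton_iff.2 ?_
      calc (m : G)⁻¹ * g * t = (m : G)⁻¹ * (g * t * g⁻¹) * g := by group
        _ = t * ((m : G)⁻¹ * g) := by rw [← hm']; group
    rw [show g = (m : G) * ((m : G)⁻¹ * g) by group]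
    exact mul_mem (mem_sup_right m.2) (mem_sup_left hmem)
  have h2 : M.relIndex C = M.index := by rw [← relIndex_sup_right, htop, relIndex_top_right]
  have e : ↥(centralizer ({t} : Set ↥M)) ≃ ↥(M.subgroupOf C) :=
    { toFun := fun x => ⟨⟨((x : ↥M) : G), mem_centralizer_singleton_iff.2
        (congrArg Subtype.val (mem_centralizer_singleton_iff.1 x.2))⟩, (x : ↥M).2⟩
      invFun := fun c => ⟨⟨((c : ↥C) : G), c.2⟩, mem_centralizer_singleton_iff.2
        (Subtype.ext (mem_centralizer_singleton_iff.1 (c : ↥C).2))⟩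
      left_inv := fun _ => rfl
      right_inv := fun _ => rfl }
  have h3 := (M.subgroupOf C).card_mul_index
  rw [← Nat.card_congr e, h.card_cent, show (M.subgroupOf C).index = M.index from h2, h1, mul_assoc,
    mul_comm (Nat.card ↥E)] at h3
  exact (Nat.eq_of_mul_eq_mul_left two_pos h3).symm

end Cfsg.Lib.EqualOrder
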