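import Cfsg.Agent.EqualOrder.Outer
import Cfsg.Agent.Classical.Misc.PSLTori

/-!
Facts about `PSL(2, q)` and its field automorphisms used for the Janko-Ree socle.
-/

set_option autoImplicit false
set_option linter.unusedSectionVars false
set_option linter.style.haveILetI false

namespace Cfsg.Lib.EqualOrder

open Subgroup Matrix
open Cfsg.Lib.Known.AutPSL2
open scoped Pointwise

universe v

/-- In a cyclic group elements of the same prime order generate the same subgroup. -/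
theorem mem_zpowers_of_cyclic {A : Type*} [Group A] [Finite A] [IsCyclic A] {r : ℕ} (hr : r.Prime) {x y : A}
    (hx : orderOf x = r) (hy : orderOf y = r) : y ∈ zpowers x := by
  classical
  haveI := Fintype.ofFinite A
  set Sol : Finset A := Finset.univ.filter fun z => z ^ r = 1 with hSol
  have hsub : (zpowers x : Set A).toFinset ⊆ Sol := fun z hz => by
    rw [Set.mem_toFinset, SetLike.mem_coe] at hz
    obtain ⟨k, rfl⟩ := mem_zpowers_iff.1 hz
    refine Finset.mem_filter.2 ⟨Finset.mem_univ _, ?_⟩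
    rw [← zpow_natCast (x ^ k) r, ← _root_.zpow_mul, mul_comm k, _root_.zpow_mul, zpow_natCast, ← hx,
      pow_orderOf_eq_one, _root_.one_zpow]
  have hcard : Sol.card ≤ r := IsCyclic.card_pow_eq_one_le (α := A) hr.pos
  have hxc : (zpowers x : Set A).toFinset.card = r := by
    rw [Set.toFinset_card, ← Nat.card_eq_fintype_card]
    exact (Nat.card_zpowers x).trans hx
  have hmem : y ∈ Sol := Finset.mem_filter.2 ⟨Finset.mem_univ _, by rw [← hy, pow_orderOf_eq_one]⟩
  rw [← Finset.eq_of_subset_of_card_le hsub (by rw [hxc]; exact hcard), Set.mem_toFinset] at hmem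
  exact hmem

variable {F : Type v} [Field F] [Fintype F]

local notation "PG" => Matrix.ProjectiveSpecialLinearGroup (Fin 2) F
local notation "SG" => Matrix.SpecialLinearGroup (Fin 2) F

theorem inn_conj_mem (g : PG) : MulAut.conj g ∈ Cfsg.Inn PG := ⟨g, rfl⟩

/-- An almost simple extension of odd index contains a field automorphism of each prime order dividing it. -/
theorem exists_field_mem {p f : ℕ} [Fact p.Prime] [CharP F p] [Algebra (ZMod p) F] (hf : 1 ≤ f)
    (hF : Fintype.card F = p ^ f) (hodd : Odd (p ^ f)) (H : Subgroup (MulAut PG)) (hI : Cfsg.Inn PG ≤ H)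
    {m : ℕ} (hm : Nat.card ↥H = Nat.card ↥(Cfsg.Inn PG) * m) (hmo : Odd m) {r : ℕ} (hr : r.Prime) (hrm : r ∣ m) :
    r ∣ f ∧ ∃ σ : F ≃ₐ[ZMod p] F, orderOf σ = r ∧ fieldAut p σ ∈ H := by
  haveI := Fact.mk hr
  haveI : FiniteDimensional (ZMod p) F := Module.Finite.of_finite
  have hr2 : r ≠ 2 := fun e => Nat.not_even_iff_odd.2 hmo (even_iff_two_dvd.2 (e ▸ hrm))
  obtain ⟨φ, -, -, hker⟩ := exists_hom_out (F := F) p hf hF
  have hk2 : Nat.card φ.ker = 2 := by
    rw [hker, Nat.gcd_eq_left (Nat.dvd_of_mod_eq_zero (by have := Nat.odd_iff.1 hodd; omega))]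
  set mk : MulAut PG →* Cfsg.Out PG := QuotientGroup.mk' (Cfsg.Inn PG) with hmk
  have hS : Nat.card (H.map mk) = m := by
    have h1 : (H.map mk).comap mk = H := by
      rw [comap_map_eq, hmk, QuotientGroup.ker_mk', sup_eq_left.2 hI]
    have h2 : Nat.card ↥((H.map mk).comap mk) = Nat.card ↥(H.map mk) * Nat.card ↥(Cfsg.Inn PG) := by
      have h3 := ((H.map mk).comap mk).card_mul_index
      rw [index_comap_of_surjective _ (QuotientGroup.mk'_surjective _),
        Subgroup.card_eq_card_quotient_mul_card_subgroup (Cfsg.Inn PG)] at h3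
      have h4 := (H.map mk).card_mul_index
      rw [← h4, mul_assoc, mul_comm (H.map mk).index, ← mul_assoc] at h3
      exact Nat.eq_of_mul_eq_mul_right (Nat.pos_of_ne_zero index_ne_zero_of_finite) h3
    rw [h1, hm, mul_comm (Nat.card ↥(H.map mk))] at h2
    exact (Nat.eq_of_mul_eq_mul_left Nat.card_pos h2).symm
  obtain ⟨⟨o, hoS⟩, ho⟩ := exists_prime_orderOf_dvd_card' (G := ↥(H.map mk)) r (hS.symm ▸ hrm)
  rw [Subgroup.orderOf_mk] at ho
  have hnker : ∀ z : Cfsg.Out PG, orderOf z = r → φ z ≠ 1 := fun z hz e => by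
    have h1 := φ.ker.orderOf_dvd_natCard (MonoidHom.mem_ker.2 e)
    rw [hk2] at h1
    rw [hz] at h1
    exact hr2 ((Nat.prime_dvd_prime_iff_eq hr Nat.prime_two).1 h1)
  have hφord : ∀ z : Cfsg.Out PG, orderOf z = r → orderOf (φ z) = r := fun z hz =>
    ((Nat.dvd_prime hr).1 (hz ▸ orderOf_map_dvd φ z)).resolve_left fun e => hnker z hz (orderOf_eq_one_iff.1 e)
  haveI : NeZero f := ⟨by omega⟩
  have hrf : r ∣ f := by
    have h1 := orderOf_dvd_natCard (φ o)
    rwa [hφord o ho, Nat.card_congr Multiplicative.toAdd, Nat.card_zmod] at h1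
  refine ⟨hrf, ?_⟩
  have hcard : Nat.card (F ≃ₐ[ZMod p] F) = f := by
    rw [IsGalois.card_aut_eq_finrank]
    have h := Module.natCard_eq_pow_finrank (K := ZMod p) (V := F)
    rw [Nat.card_eq_fintype_card, hF, Nat.card_zmod] at h
    exact (Nat.pow_right_injective (Fact.out : p.Prime).two_le h).symm
  obtain ⟨σ, hσ⟩ := exists_prime_orderOf_dvd_card' (G := F ≃ₐ[ZMod p] F) r (hcard.symm ▸ hrf)
  refine ⟨σ, hσ, ?_⟩
  have key : ∀ τ : F ≃ₐ[ZMod p] F, fieldAut p τ ∈ Cfsg.Inn PG → τ = 1 := by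
    rintro τ ⟨g, hg⟩
    exact (inner_imp p (a := 1) (g := g) (by rw [map_one, one_mul, hg])).1
  have hσo : orderOf (mk (fieldAut p σ)) = r :=
    orderOf_eq_prime (by rw [← map_pow, ← map_pow, ← hσ, pow_orderOf_eq_one, map_one, map_one]) fun e => by
      rw [key σ ((QuotientGroup.eq_one_iff _).1 e), orderOf_one] at hσ
      exact hr.one_lt.ne hσ
  obtain ⟨k, hk⟩ := mem_zpowers_iff.1 (mem_zpowers_of_cyclic hr (hφord o ho) (hφord _ hσo))
  set z := (o ^ k)⁻¹ * mk (fieldAut p σ) with hz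
  have hzk : z ∈ φ.ker := by
    rw [MonoidHom.mem_ker, hz, map_mul, map_inv, map_zpow, hk, inv_mul_cancel]
  have hzc : ∀ w : Cfsg.Out PG, Commute w z := fun w => by
    have hwz : w * z * w⁻¹ ∈ φ.ker := (inferInstance : φ.ker.Normal).conj_mem z hzk w
    by_cases h1 : z = 1
    · rw [h1]; exact Commute.one_right w
    have h3 : ∀ y ∈ φ.ker, y = 1 ∨ y = z := by
      intro y hy
      by_contra hcon
      push Not at hcon
      haveI := Fintype.ofFinite ↥φ.ker
      have h3 : 2 < Fintype.card ↥φ.ker := Fintype.two_lt_card_iff.2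
        ⟨1, ⟨z, hzk⟩, ⟨y, hy⟩, fun e => h1 (congrArg Subtype.val e).symm,
          fun e => hcon.1 (congrArg Subtype.val e).symm, fun e => hcon.2 (congrArg Subtype.val e).symm⟩
      rw [← Nat.card_eq_fintype_card, hk2] at h3
      omega
    rcases h3 _ hwz with e | e
    · exact absurd (conj_eq_one_iff.1 e) h1
    · exact mul_inv_eq_iff_eq_mul.1 e
  have hσz : mk (fieldAut p σ) = o ^ k * z := by rw [hz]; group
  have hz1 : z = 1 := by
    have h1 : (o ^ k * z) ^ r = 1 := by rw [← hσz, ← hσo, pow_orderOf_eq_one]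
    rw [(hzc _).mul_pow, ← zpow_natCast (o ^ k), ← _root_.zpow_mul, mul_comm k, _root_.zpow_mul, zpow_natCast,
      show o ^ r = 1 by rw [← ho, pow_orderOf_eq_one], _root_.one_zpow, one_mul] at h1
    have h2 := φ.ker.orderOf_dvd_natCard hzk
    rw [hk2] at h2
    exact orderOf_eq_one_iff.1 (Nat.eq_one_of_dvd_coprimes
      ((Nat.coprime_primes hr Nat.prime_two).2 hr2) (orderOf_dvd_of_pow_eq_one h1) h2)
  obtain ⟨α, hα, hαe⟩ : mk (fieldAut p σ) ∈ H.map mk := by
    rw [hσz, hz1, mul_one]; exact zpow_mem hoS k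
  have h1 : α⁻¹ * fieldAut p σ ∈ H := hI (QuotientGroup.eq.1 hαe)
  simpa using mul_mem hα h1

/-- The centraliser of a non-trivial unipotent element. -/
theorem mem_u_range_of_commute {x : Multiplicative F} (hx : x ≠ 1) {g : PG} (hg : Commute g (u x)) :
    g ∈ (u (F := F)).range := by
  obtain ⟨M, rfl⟩ := QuotientGroup.mk'_surjective (center SG) g
  have hx0 : x.toAdd ≠ 0 := fun e => hx (Multiplicative.toAdd.injective (e.trans toAdd_one.symm))
  have h1 : π (uS x.toAdd) = π (M * uS x.toAdd * M⁻¹) := by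
    rw [map_mul, map_mul, map_inv, show π M * π (uS x.toAdd) = π (uS x.toAdd) * π M from hg.eq, mul_inv_cancel_right]
  obtain ⟨c, hc, h2⟩ := π_eq h1
  rw [conj_uS, coe_uS] at h2
  have e00 := congrFun (congrFun h2 0) 0
  have e01 := congrFun (congrFun h2 0) 1
  have e10 := congrFun (congrFun h2 1) 0
  simp at e00 e01 e10
  have hM10 : M.1 1 0 = 0 := e10.resolve_right hx0
  have hc1 : c = 1 := by simpa [hM10] using e00.symm
  have hd := M.2
  rw [det_fin_two, hM10, mul_zero, sub_zero] at hd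
  have ha : M.1 0 0 * M.1 0 0 = 1 := by
    rw [hc1] at e01
    rw [← sq]
    exact e01.resolve_right hx
  have h11 : M.1 1 1 = M.1 0 0 := mul_left_cancel₀ (left_ne_zero_of_mul_eq_one ha) (hd.trans ha.symm)
  refine ⟨Multiplicative.ofAdd (M.1 0 0 * M.1 0 1), ?_⟩
  show π (uS (M.1 0 0 * M.1 0 1)) = π M
  refine (QuotientGroup.mk'_eq_mk' _).2 ⟨(uS (M.1 0 0 * M.1 0 1))⁻¹ * M,
    Matrix.SpecialLinearGroup.mem_center_iff.2 ⟨M.1 0 0, by simpa [sq] using ha, ?_⟩, mul_inv_cancel_left _ _⟩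
  rw [cmul, cinv, coe_uS, adjugate_fin_two]
  ext i j
  fin_cases i <;> fin_cases j <;> simp [mul_apply, Fin.sum_univ_two, hM10, h11, diagonal]
  linear_combination (M.1 0 1) * ha

/-- An element of order `r²` when `r` divides both the degree and `q² - 1`. -/
theorem exists_orderOf_sq {r k p : ℕ} (hr : r.Prime) (hr2 : r ≠ 2) (hF : Fintype.card F = p ^ (k * r))
    (hodd : Odd (Fintype.card F)) (hbig : 13 ≤ Fintype.card F) (hdvd : r ∣ Fintype.card F ^ 2 - 1) :
    ∃ g : PG, orderOf g = r ^ 2 := by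
  haveI := Fact.mk hr
  obtain ⟨q, hq⟩ : ∃ q, Fintype.card F = q := ⟨_, rfl⟩
  rw [hq] at hodd hbig hdvd
  have hqq : q = (p ^ k) ^ r := by rw [← hq, hF, pow_mul]
  have h1 : 1 ≤ q ^ 2 := Nat.one_le_pow _ _ (by omega)
  have h2 : ((r : ℕ) : ℤ) ∣ ((p ^ k : ℕ) : ℤ) ^ 2 - 1 := by
    have h3 : ((r : ℕ) : ℤ) ∣ (q : ℤ) ^ 2 - 1 := by
      have := Int.natCast_dvd_natCast.2 hdvd
      rwa [Nat.cast_sub h1, Nat.cast_pow, Nat.cast_one] at this
    rw [← ZMod.intCast_zmod_eq_zero_iff_dvd] at h3 ⊢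
    push_cast at h3 ⊢
    rw [hqq] at h3
    push_cast at h3
    rwa [ZMod.pow_card] at h3
  have h4 : ((r : ℤ)) ^ 2 ∣ (q : ℤ) ^ 2 - 1 := by
    have := dvd_sub_pow_of_dvd_sub (R := ℤ) h2 1
    rw [pow_one, one_pow, ← pow_mul, mul_comm 2 r, pow_mul] at this
    rw [hqq]
    push_cast at this ⊢
    exact this
  have h5 : r ^ 2 ∣ q ^ 2 - 1 := by
    rw [← Int.natCast_dvd_natCast, Nat.cast_sub h1]
    push_cast
    exact h4
  rw [show q ^ 2 - 1 = (q + 1) * (q - 1) by rw [← Nat.sq_sub_sq, one_pow]] at h5 hdvd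
  have hg : Nat.gcd 2 (q - 1) = 2 := Nat.gcd_eq_left (Nat.dvd_of_mod_eq_zero (by
    have := Nat.odd_iff.1 hodd; omega))
  have hc2 : Nat.Coprime (r ^ 2) 2 := ((Nat.coprime_primes hr Nat.prime_two).2 hr2).pow_left 2
  have hor : r ^ 2 ∣ (q + 1) / 2 ∨ r ^ 2 ∣ (q - 1) / 2 := by
    have hdiv : ∀ a, 2 ∣ a → r ^ 2 ∣ a → r ^ 2 ∣ a / 2 := fun a ha hra => by
      obtain ⟨b, rfl⟩ := ha
      rw [Nat.mul_div_cancel_left _ two_pos]
      exact hc2.dvd_of_dvd_mul_left hra
    have ho := Nat.odd_iff.1 hodd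
    by_cases hp1 : r ∣ q + 1
    · have hm1 : ¬ r ∣ q - 1 := fun hh => hr2 ((Nat.prime_dvd_prime_iff_eq hr Nat.prime_two).1 (by
        have h7 := Nat.dvd_sub hp1 hh
        rwa [show q + 1 - (q - 1) = 2 by omega] at h7))
      exact Or.inl (hdiv _ (Nat.dvd_of_mod_eq_zero (by omega))
        ((((hr.coprime_iff_not_dvd).2 hm1).pow_left 2).dvd_of_dvd_mul_right h5))
    · exact Or.inr (hdiv _ (Nat.dvd_of_mod_eq_zero (by omega))
        ((((hr.coprime_iff_not_dvd).2 hp1).pow_left 2).dvd_of_dvd_mul_left h5))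
  have key : ∀ m, r ^ 2 ∣ m → 0 < m → ∀ H : Subgroup PG, H ≃* DihedralGroup m → ∃ g : PG, orderOf g = r ^ 2 := by
    intro m hm hm0 H e
    haveI : NeZero m := ⟨hm0.ne'⟩
    obtain ⟨j, rfl⟩ := hm
    have hj : j ≠ 0 := fun e => by rw [e, mul_zero] at hm0; exact lt_irrefl 0 hm0
    refine ⟨((e.symm (DihedralGroup.r 1) : ↥H) : PG) ^ j, ?_⟩
    have ho : orderOf ((e.symm (DihedralGroup.r (1 : ZMod (r ^ 2 * j))) : ↥H) : PG) = r ^ 2 * j := by
      rw [Subgroup.orderOf_coe, MulEquiv.orderOf_eq, DihedralGroup.orderOf_r_one]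
    rw [orderOf_pow_of_dvd hj (by rw [ho]; exact dvd_mul_left j (r ^ 2)), ho, Nat.mul_div_cancel _ (Nat.pos_of_ne_zero hj)]
  have hq' : q ∉ ({2, 3, 5, 7, 9, 11} : Finset ℕ) := by simp; omega
  rcases hor with hh | hh
  · obtain ⟨H, -, ⟨e⟩⟩ := Cfsg.Lib.Classical.PSLTori.exists_nonsplit hq (by simp; omega)
    rw [hg] at e
    exact key _ hh (by omega) H e
  · obtain ⟨H, -, ⟨e⟩⟩ := Cfsg.Lib.Classical.PSLTori.exists_split hq hq'
    rw [hg] at e
    exact key _ hh (by omega) H e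

end Cfsg.Lib.EqualOrder
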