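import Cfsg.Agent.EqualOrder.JR.Basic
import Cfsg.Agent.EqualOrder.JR.Field

/-!
The socle of Janko-Ree type is the whole group, with `E` equal to its linear fractional part.
-/

set_option autoImplicit false
set_option linter.unusedSectionVars false
set_option linter.style.haveILetI false

namespace Cfsg.Lib.EqualOrder

open Subgroup
open Cfsg.Lib.Known.AutPSL2
open scoped Pointwise

universe u

variable {G : Type u} [Group G] [Finite G] {M : Subgroup G} [M.Normal] {t : ↥M} {E E₀ : Subgroup ↥M}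
  {F : Type} [Field F] [Fintype F]

local notation "PG" => Matrix.ProjectiveSpecialLinearGroup (Fin 2) F

/-- The embedding of the linear fractional group. -/
def emb (f : ↥E₀ ≃* Matrix.ProjectiveSpecialLinearGroup (Fin 2) F) :
    Matrix.ProjectiveSpecialLinearGroup (Fin 2) F →* G :=
  M.subtype.comp (E₀.subtype.comp f.symm.toMonoidHom)

theorem emb_injective (f : ↥E₀ ≃* PG) : Function.Injective (emb (G := G) f) :=
  fun _ _ hh => f.symm.injective (E₀.subtype_injective (M.subtype_injective hh))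

theorem emb_mem (f : ↥E₀ ≃* PG) (z : PG) : emb (G := G) f z ∈ M := ((f.symm z : ↥E₀) : ↥M).2

variable (h : JR M t E E₀ F)
include h

theorem JR.emb_comm (f : ↥E₀ ≃* PG) (z : PG) : emb (G := G) f z ∈ centralizer ({(t : G)} : Set G) :=
  mem_centralizer_singleton_iff.2 (congrArg Subtype.val
    (h.hyp.comm _ (h.hyp.le (f.symm z).2)).symm.eq)

/-- The action transported to the linear fractional group. -/
noncomputable def JR.actP (f : ↥E₀ ≃* PG) : ↥(centralizer ({(t : G)} : Set G)) →* MulAut PG :=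
  (MulAut.congr f).toMonoidHom.comp h.act

theorem JR.conj_emb (f : ↥E₀ ≃* PG) (c : ↥(centralizer ({(t : G)} : Set G))) (z : PG) :
    (c : G) * emb (G := G) f z * (c : G)⁻¹ = emb (G := G) f (h.actP f c z) := by
  have : h.actP f c z = f (h.act c (f.symm z)) := rfl
  rw [this]
  show (c : G) * (((f.symm z : ↥E₀) : ↥M) : G) * (c : G)⁻¹ = (((f.symm (f (h.act c (f.symm z))) : ↥E₀) : ↥M) : G)
  rw [f.symm_apply_apply]
  rfl

theorem JR.actP_emb (f : ↥E₀ ≃* PG) (z : PG) :
    h.actP f ⟨emb f z, h.emb_comm f z⟩ = MulAut.conj z := by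
  refine MulEquiv.ext fun w => emb_injective (G := G) f ?_
  rw [← h.conj_emb f, MulAut.conj_apply, map_mul, map_mul, map_inv]

theorem JR.card_inn : Nat.card ↥(Cfsg.Inn PG) = Nat.card ↥E₀ := by
  obtain ⟨f⟩ := h.hyp.iso
  haveI : IsSimpleGroup PG :=
    Matrix.ProjectiveSpecialLinearGroup.rank_two_simple (by rw [Nat.card_eq_fintype_card]; have := h.five; omega)
  have hinj : Function.Injective (MulAut.conj : PG →* MulAut PG) := by
    refine (MonoidHom.ker_eq_bot_iff _).1 ((MonoidHom.normal_ker _).eq_bot_or_eq_top.resolve_right fun e => ?_)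
    have h4 := h.four_dvd
    rw [Nat.card_congr f.toEquiv] at h4
    have hcomm : ∀ a b : PG, a * b = b * a := fun a b => mul_inv_eq_iff_eq_mul.1
      ((MulAut.conj_apply a b).symm.trans (DFunLike.congr_fun (MonoidHom.mem_ker.1 (e ▸ mem_top a)) b))
    letI : CommGroup PG := { (inferInstance : Group PG) with mul_comm := hcomm }
    obtain ⟨p, hp'⟩ : ∃ p, Nat.card PG = p := ⟨_, rfl⟩
    have hp := IsSimpleGroup.prime_card (α := PG)
    rw [hp'] at hp h4
    have := (Nat.prime_dvd_prime_iff_eq Nat.prime_two hp).1 ((show 2 ∣ 4 by norm_num).trans h4)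
    omega
  rw [Nat.card_congr f.toEquiv]
  exact (Nat.card_congr (MonoidHom.ofInjective hinj).toEquiv).symm

/-- A Sylow subgroup over the unipotent group is elementary abelian. -/
theorem JR.sylow_elem (f : ↥E₀ ≃* PG) {p d : ℕ} [Fact p.Prime] [CharP F p] (hd : 2 ≤ d)
    (hF : Fintype.card F = p ^ d) (R : Sylow p G)
    (hR : ((u (F := F)).range).map (emb (G := G) f) ≤ (R : Subgroup G)) :
    Cfsg.IsElementaryAbelian p (R : Subgroup G) := by
  have hp2 : p ≠ 2 := fun e => by
    have := Nat.odd_iff.1 h.hyp.odd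
    rw [hF, e, Nat.pow_mod, Nat.mod_self, zero_pow (by omega)] at this
    norm_num at this
  obtain ⟨n, hn⟩ := IsPGroup.iff_card.1 R.2
  have hUc : Nat.card ↥(((u (F := F)).range).map (emb (G := G) f)) = p ^ d := by
    rw [card_map_of_injective (emb_injective f),
      Nat.card_congr (MonoidHom.ofInjective (u_injective (F := F))).toEquiv.symm,
      Nat.card_congr Multiplicative.toAdd, Nat.card_eq_fintype_card, hF]
  have hexp : ∀ x ∈ ((u (F := F)).range).map (emb (G := G) f), x ^ p = 1 := by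
    rintro _ ⟨_, ⟨a, rfl⟩, rfl⟩
    have ha : a ^ p = 1 := Multiplicative.toAdd.injective (by
      rw [toAdd_pow, toAdd_one, nsmul_eq_mul, CharP.cast_eq_zero, zero_mul])
    rw [← map_pow, ← map_pow, ha, map_one, map_one]
  rcases Cfsg.Agent.S4020.result h.dp R with hc | hel | ⟨⟨q⟩⟩
  · exfalso
    haveI := hc
    haveI : IsCyclic ↥(((u (F := F)).range).map (emb (G := G) f)) :=
      isCyclic_of_injective (Subgroup.inclusion hR) (Subgroup.inclusion_injective hR)
    obtain ⟨⟨z, hz⟩, hgen⟩ := IsCyclic.exists_generator (α := ↥(((u (F := F)).range).map (emb (G := G) f)))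
    have h1 := orderOf_eq_card_of_forall_mem_zpowers hgen
    rw [Subgroup.orderOf_mk, hUc] at h1
    have h2 := orderOf_dvd_of_pow_eq_one (hexp z hz)
    rw [h1] at h2
    have := (Nat.pow_dvd_pow_iff_le_right (Fact.out : p.Prime).one_lt).1 (show p ^ d ∣ p ^ 1 by rwa [pow_one])
    omega
  · exact hel
  · exfalso
    have hq := Nat.card_congr q.toEquiv
    rw [hn, Nat.card_eq_fintype_card (α := QuaternionGroup 2), QuaternionGroup.card] at hq
    have hdvd := card_dvd_of_le hR
    rw [hUc, hn] at hdvd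
    have hdn := (Nat.pow_dvd_pow_iff_le_right (Fact.out : p.Prime).one_lt).1 hdvd
    have h1 : p ∣ 2 ^ 3 := by
      rw [show (2 : ℕ) ^ 3 = 4 * 2 by norm_num, ← hq]; exact dvd_pow_self p (by omega)
    exact hp2 ((Nat.prime_dvd_prime_iff_eq Fact.out Nat.prime_two).1 ((Fact.out : p.Prime).dvd_of_dvd_pow h1))

/-- No field automorphism of the order of the characteristic. -/
theorem JR.ne_char (f : ↥E₀ ≃* PG) {p d : ℕ} [Fact p.Prime] [CharP F p] [Algebra (ZMod p) F] (hd : 2 ≤ d)
    (hF : Fintype.card F = p ^ d) (s : ↥(centralizer ({(t : G)} : Set G))) (σ : F ≃ₐ[ZMod p] F)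
    (hs : h.actP f s = fieldAut p σ) (hsp : orderOf (s : G) = p) : σ = 1 := by
  set U := ((u (F := F)).range).map (emb (G := G) f) with hU
  have hUp : IsPGroup p ↥U := by
    refine IsPGroup.of_card (n := d) ?_
    rw [hU, card_map_of_injective (emb_injective f),
      Nat.card_congr (MonoidHom.ofInjective (u_injective (F := F))).toEquiv.symm,
      Nat.card_congr Multiplicative.toAdd, Nat.card_eq_fintype_card, hF]
  have hact : ∀ x : F, (s : G) * emb (G := G) f (u (Multiplicative.ofAdd x)) * (s : G)⁻¹ =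
      emb (G := G) f (u (Multiplicative.ofAdd (σ x))) := fun x => by
    rw [h.conj_emb f s, hs, u_apply, u_apply, fieldAut_u]
  have hle : zpowers (s : G) ≤ normalizer (U : Set G) := zpowers_le.2 <| by
    refine mem_normalizer_iff.2 fun y => ⟨?_, fun hy => ?_⟩
    · rintro ⟨_, ⟨a, rfl⟩, rfl⟩
      exact ⟨_, ⟨_, rfl⟩, (hact a.toAdd).symm⟩
    · obtain ⟨_, ⟨a, rfl⟩, e⟩ := hy
      have h1 := hact (σ⁻¹ a.toAdd)
      rw [show σ (σ⁻¹ a.toAdd) = a.toAdd from σ.apply_symm_apply _, ofAdd_toAdd, e] at h1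
      exact ⟨_, ⟨_, rfl⟩, mul_left_cancel (mul_right_cancel h1)⟩
  have hsP : IsPGroup p ↥(zpowers (s : G)) := IsPGroup.of_card (n := 1) (by rw [Nat.card_zpowers, hsp, pow_one])
  obtain ⟨R, hR⟩ := (hsP.to_sup_of_normal_right' hUp hle).exists_le_sylow
  have hel := h.sylow_elem f hd hF R (le_trans le_sup_right hR)
  refine AlgEquiv.ext fun x => ?_
  have hc : (s : G) * emb (G := G) f (u (Multiplicative.ofAdd x)) = emb (G := G) f (u (Multiplicative.ofAdd x)) * s :=
    congrArg Subtype.val (hel.1.is_comm.comm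
      (⟨(s : G), hR (mem_sup_left (mem_zpowers _))⟩ : ↥(R : Subgroup G))
      ⟨_, hR (mem_sup_right ⟨_, ⟨_, rfl⟩, rfl⟩)⟩)
  have h1 := hact x
  rw [hc, mul_inv_cancel_right] at h1
  exact (Multiplicative.ofAdd.injective (u_injective (emb_injective (G := G) f h1))).symm

/-- No field automorphism of an order dividing the order of the linear fractional group. -/
theorem JR.not_dvd (f : ↥E₀ ≃* PG) {p d r : ℕ} [Fact p.Prime] [CharP F p] [Algebra (ZMod p) F]
    (hF : Fintype.card F = p ^ d) (hbig : 13 ≤ Fintype.card F) (hr : r.Prime) (hr2 : r ≠ 2) (hrp : r ≠ p)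
    (hrd : r ∣ d) (s : ↥(centralizer ({(t : G)} : Set G))) (σ : F ≃ₐ[ZMod p] F)
    (hs : h.actP f s = fieldAut p σ) (hsr : orderOf (s : G) = r) (hσ : orderOf σ = r) :
    ¬ r ∣ Nat.card ↥E₀ := by
  intro hdvd
  haveI := Fact.mk hr
  rw [Nat.card_congr f.toEquiv] at hdvd
  obtain ⟨y, hy⟩ := exists_prime_orderOf_dvd_card' (G := PG) r hdvd
  obtain ⟨Rc, hRc⟩ := ((IsPGroup.of_card (G := ↥(zpowers s)) (p := r) (n := 1)
    (by rw [Nat.card_zpowers, ← Subgroup.orderOf_coe, hsr, pow_one])).exists_le_sylow)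
  obtain ⟨R, hR⟩ := (Rc.2.map (centralizer ({(t : G)} : Set G)).subtype).exists_le_sylow
  obtain ⟨n, hn⟩ := IsPGroup.iff_card.1 R.2
  rcases Cfsg.Agent.S4020.result h.dp R with hc | hel | ⟨⟨q⟩⟩
  · haveI := hc
    haveI : IsCyclic ↥(Rc : Subgroup ↥(centralizer ({(t : G)} : Set G))) :=
      isCyclic_of_injective ((Subgroup.inclusion hR).comp
        ((centralizer ({(t : G)} : Set G)).subtype.subgroupMap (Rc : Subgroup ↥(centralizer ({(t : G)} : Set G)))))
        ((Subgroup.inclusion_injective hR).comp fun a b hab => Subtype.ext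
          (Subtype.ext (congrArg (fun z : ↥((Rc : Subgroup ↥(centralizer ({(t : G)} : Set G))).map
            (centralizer ({(t : G)} : Set G)).subtype) => (z : G)) hab)))
    set y' : ↥(centralizer ({(t : G)} : Set G)) := ⟨emb f y, h.emb_comm f y⟩ with hy'
    have hy'o : orderOf y' = r := by rw [hy', Subgroup.orderOf_mk, orderOf_injective _ (emb_injective f), hy]
    obtain ⟨S', hS'⟩ := ((IsPGroup.of_card (G := ↥(zpowers y')) (p := r) (n := 1)
      (by rw [Nat.card_zpowers, hy'o, pow_one])).exists_le_sylow)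
    obtain ⟨c, hcS⟩ := MulAction.exists_smul_eq ↥(centralizer ({(t : G)} : Set G)) S' Rc
    have hmem : c * y' * c⁻¹ ∈ (Rc : Subgroup ↥(centralizer ({(t : G)} : Set G))) := by
      rw [← hcS, Sylow.coe_subgroup_smul]
      exact ⟨y', hS' (mem_zpowers y'), rfl⟩
    have hy'' : orderOf (c * y' * c⁻¹) = r := by
      rw [← MulAut.conj_apply, MulEquiv.orderOf_eq, hy'o]
    have h2 := mem_zpowers_of_cyclic hr
      (x := (⟨c * y' * c⁻¹, hmem⟩ : ↥(Rc : Subgroup ↥(centralizer ({(t : G)} : Set G)))))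
      (y := ⟨s, hRc (mem_zpowers s)⟩)
      (by rw [Subgroup.orderOf_mk]; exact hy'') (by rw [Subgroup.orderOf_mk, ← Subgroup.orderOf_coe, hsr])
    obtain ⟨k, hk⟩ := mem_zpowers_iff.1 h2
    have hk' : (c * y' * c⁻¹) ^ k = s := (congrArg Subtype.val hk :)
    have hin : h.actP f s ∈ Cfsg.Inn PG := by
      rw [← hk', map_zpow, map_mul, map_mul, map_inv]
      refine zpow_mem ?_ k
      rw [show h.actP f y' = MulAut.conj y from h.actP_emb f y]
      exact (inferInstance : (Cfsg.Inn PG).Normal).conj_mem _ ⟨y, rfl⟩ _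
    obtain ⟨g, hg⟩ := hin
    have h1 := (inner_imp p (a := 1) (g := g) (by rw [map_one, one_mul, hg, hs])).1
    rw [h1, orderOf_one] at hσ
    exact hr.one_lt.ne hσ
  · obtain ⟨k, hk⟩ := hrd
    obtain ⟨g, hg⟩ := exists_orderOf_sq (F := F) (k := k) (p := p) hr hr2 (by rw [hF, hk, mul_comm]) h.hyp.odd hbig (by
      have h1 : r ∣ 2 * Nat.card ↥E₀ := by rw [Nat.card_congr f.toEquiv]; exact hdvd.trans (dvd_mul_left _ 2)
      rw [h.card_E₀] at h1
      refine Nat.Coprime.dvd_of_dvd_mul_left ?_ h1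
      rw [hF]
      exact ((Nat.coprime_primes hr Fact.out).2 hrp).pow_right d)
    obtain ⟨R', hR'⟩ := (IsPGroup.of_card (G := ↥(zpowers (emb (G := G) f g))) (p := r) (n := 2)
      (by rw [Nat.card_zpowers, orderOf_injective _ (emb_injective f), hg])).exists_le_sylow
    obtain ⟨x, hx⟩ := MulAction.exists_smul_eq G R' R
    have hmem : x * emb (G := G) f g * x⁻¹ ∈ (R : Subgroup G) := by
      rw [← hx, Sylow.coe_subgroup_smul]
      exact ⟨_, hR' (mem_zpowers _), rfl⟩
    have h1 := orderOf_dvd_of_pow_eq_one (hel.2 _ hmem)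
    rw [← MulAut.conj_apply, MulEquiv.orderOf_eq, orderOf_injective _ (emb_injective f), hg] at h1
    exact absurd (Nat.le_of_dvd hr.pos h1) (not_le.2 (lt_self_pow₀ hr.one_lt one_lt_two))
  · have hq := Nat.card_congr q.toEquiv
    rw [hn, Nat.card_eq_fintype_card (α := QuaternionGroup 2), QuaternionGroup.card] at hq
    rcases Nat.eq_zero_or_pos n with rfl | hn0
    · norm_num at hq
    · have h1 : r ∣ 2 ^ 3 := by
        rw [show (2 : ℕ) ^ 3 = 4 * 2 by norm_num, ← hq]; exact dvd_pow_self r hn0.ne'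
      exact hr2 ((Nat.prime_dvd_prime_iff_eq hr Nat.prime_two).1 (hr.dvd_of_dvd_pow h1))

/-- An involution in the centraliser of `t` and of a unipotent element is `t`. -/
theorem JR.invol_cent (f : ↥E₀ ≃* PG) {x : Multiplicative F} (hx : x ≠ 1) {y : G} (hy : y ∈ M)
    (hy2 : ∃ k, orderOf y = 2 ^ k) (hyt : Commute y (t : G)) (hyx : Commute y (emb (G := G) f (u x))) :
    y = 1 ∨ y = t := by
  obtain ⟨k, hk⟩ := hy2
  set m : ↥M := ⟨y, hy⟩ with hm
  have hmt : Commute m t := Subtype.ext hyt.eq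
  obtain ⟨e, he, r⟩ := h.hyp.split m hmt
  set w : ↥M := ((f.symm (u x) : ↥E₀) : ↥M) with hw
  have hwx : Commute e w := by
    have h1 : Commute m w := Subtype.ext hyx.eq
    rcases r with r | r
    · exact r ▸ h1
    · have h2 : e = t * m := by rw [r, ← mul_assoc, h.hyp.tt, one_mul]
      rw [h2]
      exact (h.hyp.comm w (h.hyp.le (f.symm (u x)).2)).mul_left h1
  have heo : ∃ j, orderOf e = 2 ^ j := by
    have hme : e ^ (2 ^ (k + 1)) = 1 := by
      have h1 : m ^ (2 ^ (k + 1)) = 1 := Subtype.ext (by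
        push_cast
        rw [pow_succ, pow_mul, ← hk]
        simp [hm, pow_orderOf_eq_one])
      rcases r with r | r
      · rwa [r] at h1
      · rw [r, (h.hyp.comm e he).mul_pow, pow_succ, mul_comm, pow_mul, pow_two, h.hyp.tt, one_pow, one_mul,
          mul_comm, ← pow_succ] at h1
        exact h1
    obtain ⟨j, -, hj⟩ := (Nat.dvd_prime_pow Nat.prime_two).1 (orderOf_dvd_of_pow_eq_one hme)
    exact ⟨j, hj⟩
  obtain ⟨j, hj⟩ := heo
  have he0 : e ∈ E₀ := h.mem_E₀_of_order he (by rw [hj]; exact (Nat.coprime_two_left.2 h.odd_relIndex).pow_left j)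
  have hc : Commute (f ⟨e, he0⟩) (u x) := by
    have h1 : Commute (⟨e, he0⟩ : ↥E₀) (f.symm (u x)) := Subtype.ext hwx.eq
    simpa using h1.map f.toMonoidHom
  obtain ⟨a, ha⟩ := mem_u_range_of_commute hx hc
  have he1 : e = 1 := by
    obtain ⟨n, hp, hn⟩ := FiniteField.card F (ringChar F)
    have h1 : orderOf (f ⟨e, he0⟩) = 2 ^ j := by rw [MulEquiv.orderOf_eq, Subgroup.orderOf_mk, hj]
    have h2 : orderOf (f ⟨e, he0⟩) ∣ Fintype.card F := by
      rw [← ha, orderOf_injective _ (u_injective (F := F)), ← Nat.card_eq_fintype_card,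
        ← Nat.card_congr (Multiplicative.toAdd (α := F))]
      exact orderOf_dvd_natCard a
    rw [h1] at h2
    have h3 : 2 ^ j = 1 := Nat.eq_one_of_dvd_coprimes
      ((Nat.coprime_two_left.2 h.hyp.odd).pow_left j) dvd_rfl h2
    rw [← hj] at h3
    exact orderOf_eq_one_iff.1 h3
  subst he1
  rcases r with r | r
  · exact Or.inl (congrArg Subtype.val r)
  · right
    rw [mul_one] at r
    exact congrArg Subtype.val r

/-- Subgroups of the unipotent group of equal order are conjugate under the centraliser of `t`. -/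
theorem JR.fusion (f : ↥E₀ ≃* PG) {p d : ℕ} [Fact p.Prime] [CharP F p] (hF : Fintype.card F = p ^ d)
    {A B : Subgroup G} (hA : A ≤ ((u (F := F)).range).map (emb (G := G) f))
    (hB : B ≤ ((u (F := F)).range).map (emb (G := G) f)) (hAB : Nat.card A = Nat.card B) :
    ∃ c : G, c ∈ centralizer ({(t : G)} : Set G) ⊓ normalizer (((u (F := F)).range.map (emb (G := G) f)) : Set G) ∧
      ∀ x, x ∈ A ↔ c * x * c⁻¹ ∈ B := by
  classical
  haveI : Fact (Nat.Prime 2) := ⟨Nat.prime_two⟩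
  set U := ((u (F := F)).range).map (emb (G := G) f) with hU
  by_cases hB1 : B = ⊥
  · have hA1 : A = ⊥ := card_eq_one.1 (by rw [hAB, hB1, card_bot])
    exact ⟨1, one_mem _, fun x => by rw [hA1, hB1]; simp⟩
  have hUp : IsPGroup p ↥U := by
    refine IsPGroup.of_card (n := d) ?_
    rw [hU, card_map_of_injective (emb_injective f),
      Nat.card_congr (MonoidHom.ofInjective (u_injective (F := F))).toEquiv.symm,
      Nat.card_congr Multiplicative.toAdd, Nat.card_eq_fintype_card, hF]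
  obtain ⟨g, hg⟩ := h.dp p Fact.out A B (hUp.to_le hA) (hUp.to_le hB) hAB
  obtain ⟨z, hzB, hz1⟩ := B.bot_or_exists_ne_one.resolve_left hB1
  obtain ⟨_, ⟨x, rfl⟩, rfl⟩ := hB hzB
  have hx : x ≠ 1 := fun e => hz1 (by rw [e, map_one, map_one])
  have hUt : ∀ w ∈ U, Commute (t : G) w := by
    rintro _ ⟨w, -, rfl⟩
    exact (mem_centralizer_singleton_iff.1 (h.emb_comm f w)).symm
  set CB := centralizer (B : Set G) with hCB
  have htCB : (t : G) ∈ CB := mem_centralizer_iff.2 fun w hw => (hUt w (hB hw)).symm.eq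
  have htA : g * (t : G) * g⁻¹ ∈ CB := by
    refine mem_centralizer_iff.2 fun w hw => ?_
    obtain ⟨a, ha, rfl⟩ := hg.le hw
    have := (hUt a (hA ha)).symm.map (MulAut.conj g).toMonoidHom
    exact this.eq
  -- the involutions of the centraliser of `B` are conjugate there
  have hS : ∀ S : Sylow 2 ↥CB, (⟨(t : G), htCB⟩ : ↥CB) ∈ S →
      ∀ y ∈ (S : Subgroup ↥CB), y = 1 ∨ y = ⟨(t : G), htCB⟩ := by
    intro S htS y hy
    obtain ⟨k, hk⟩ : ∃ k, orderOf (y : G) = 2 ^ k := by
      obtain ⟨k, hk⟩ := S.2 ⟨y, hy⟩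
      have hk' : (y : G) ^ 2 ^ k = 1 := congrArg (fun z : ↥(S : Subgroup ↥CB) => ((z : ↥CB) : G)) hk
      obtain ⟨j, -, hj⟩ := (Nat.dvd_prime_pow Nat.prime_two).1 (orderOf_dvd_of_pow_eq_one hk')
      exact ⟨j, hj⟩
    have hyM : (y : G) ∈ M := (QuotientGroup.eq_one_iff (N := M) (y : G)).1 (orderOf_eq_one_iff.1
      (Nat.eq_one_of_dvd_coprimes ((Nat.coprime_two_left.2 h.odd).pow_left k)
        ((orderOf_map_dvd (QuotientGroup.mk' M) (y : G)).trans hk.dvd) (orderOf_dvd_natCard _)))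
    have hyt : Commute (y : G) (t : G) := by
      have hp : IsPGroup 2 ↥(((S : Subgroup ↥CB).map CB.subtype).subgroupOf M) :=
        (S.2.map CB.subtype).comap_subtype
      obtain ⟨T, hT⟩ := hp.exists_le_sylow
      have hc := (h.ab T).is_comm.comm ⟨⟨(y : G), hyM⟩, hT ⟨y, hy, rfl⟩⟩
        ⟨t, hT ⟨⟨(t : G), htCB⟩, htS, rfl⟩⟩
      exact congrArg (fun z : ↥(T : Subgroup ↥M) => ((z : ↥M) : G)) hc
    rcases h.invol_cent f hx hyM ⟨k, hk⟩ hyt (mem_centralizer_iff.1 y.2 _ hzB).symm with e | e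
    · exact Or.inl (Subtype.ext e)
    · exact Or.inr (Subtype.ext e)
  obtain ⟨S, hS'⟩ := (IsPGroup.of_card (G := ↥(zpowers (⟨(t : G), htCB⟩ : ↥CB))) (p := 2) (n := 1)
    (by rw [Nat.card_zpowers, Subgroup.orderOf_mk, h.orderOf_t, pow_one])).exists_le_sylow
  obtain ⟨S', hS''⟩ := (IsPGroup.of_card (G := ↥(zpowers (⟨g * (t : G) * g⁻¹, htA⟩ : ↥CB))) (p := 2) (n := 1)
    (by rw [Nat.card_zpowers, Subgroup.orderOf_mk, ← MulAut.conj_apply, MulEquiv.orderOf_eq, h.orderOf_t,
      pow_one])).exists_le_sylow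
  obtain ⟨k, hk⟩ := MulAction.exists_smul_eq ↥CB S' S
  have hmem : k * ⟨g * (t : G) * g⁻¹, htA⟩ * k⁻¹ ∈ (S : Subgroup ↥CB) := by
    rw [← hk, Sylow.coe_subgroup_smul]
    exact ⟨_, hS'' (mem_zpowers _), rfl⟩
  have hkg : (k : G) * (g * (t : G) * g⁻¹) * (k : G)⁻¹ = t := by
    rcases hS S (hS' (mem_zpowers _)) _ hmem with e | e
    · exfalso
      have e' := congrArg Subtype.val e
      push_cast at e'
      rw [mul_inv_eq_one, mul_eq_left, mul_inv_eq_one, mul_eq_left] at e'
      have := h.orderOf_t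
      rw [e', orderOf_one] at this
      omega
    · exact (congrArg Subtype.val e :)
  set c := (k : G) * g with hc
  have hct : c ∈ centralizer ({(t : G)} : Set G) := by
    refine mem_centralizer_singleton_iff.2 ?_
    calc c * (t : G) = (k : G) * (g * (t : G) * g⁻¹) * (k : G)⁻¹ * c := by rw [hc]; group
      _ = (t : G) * c := by rw [hkg]
  have hkB : ∀ w ∈ B, (k : G) * w * (k : G)⁻¹ = w := fun w hw => by
    rw [← mem_centralizer_iff.1 k.2 w hw, mul_inv_cancel_right]
  have hiff : ∀ w, w ∈ A ↔ c * w * c⁻¹ ∈ B := by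
    intro w
    constructor
    · intro hw
      have h1 : g * w * g⁻¹ ∈ B := hg.ge ⟨w, hw, rfl⟩
      have h2 := hkB _ h1
      rw [show c * w * c⁻¹ = (k : G) * (g * w * g⁻¹) * (k : G)⁻¹ by rw [hc]; group, h2]
      exact h1
    · intro hw
      have h1 : (k : G)⁻¹ * (c * w * c⁻¹) * (k : G) = c * w * c⁻¹ := by
        conv_lhs => rw [← hkB _ hw]
        group
      obtain ⟨a, ha, e⟩ := hg.le hw
      have h2 : g * a * g⁻¹ = g * w * g⁻¹ := by
        calc g * a * g⁻¹ = c * w * c⁻¹ := e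
          _ = (k : G)⁻¹ * (c * w * c⁻¹) * (k : G) := h1.symm
          _ = g * w * g⁻¹ := by rw [hc]; group
      rwa [mul_left_cancel (mul_right_cancel h2)] at ha
  refine ⟨c, ⟨hct, ?_⟩, hiff⟩
  set α := h.actP f ⟨c, hct⟩ with hα
  obtain ⟨a₀, ha₀A, ha₀⟩ : ∃ a₀ ∈ A, c * a₀ * c⁻¹ = emb (G := G) f (u x) :=
    ⟨c⁻¹ * emb (G := G) f (u x) * c, (hiff _).2 (by
      rw [show c * (c⁻¹ * emb (G := G) f (u x) * c) * c⁻¹ = emb (G := G) f (u x) by group]
      exact hzB), by group⟩
  obtain ⟨_, ⟨a, rfl⟩, rfl⟩ := hA ha₀A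
  have hαU : ∀ w : Multiplicative F, α (u w) ∈ (u (F := F)).range := by
    intro w
    have hαx : α (u a) = u x := emb_injective (G := G) f ((h.conj_emb f ⟨c, hct⟩ (u a)).symm.trans ha₀)
    refine mem_u_range_of_commute hx ?_
    rw [← hαx]
    exact (((Commute.all w a).map (u (F := F))).map α.toMonoidHom)
  have hmap : U.map (MulAut.conj c).toMonoidHom ≤ U := by
    rintro _ ⟨_, ⟨_, ⟨w, rfl⟩, rfl⟩, rfl⟩
    exact ⟨α (u w), hαU w, (h.conj_emb f ⟨c, hct⟩ (u w)).symm⟩
  have heq := Subgroup.eq_of_le_of_card_ge hmap (le_of_eq (card_map_of_injective (MulAut.conj c).injective).symm)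
  refine mem_normalizer_iff.2 fun w => ⟨fun hw => heq.le ⟨w, hw, rfl⟩, fun hw => ?_⟩
  obtain ⟨w', hw', e⟩ := heq.ge hw
  rwa [← (MulAut.conj c).injective e]

/-- The degree is one or there is nothing outside `E₀`. -/
theorem JR.index_eq_one : M.index = 1 ∧ E₀ = E := by
  classical
  obtain ⟨p, d, hp, hd, hF⟩ : ∃ p d : ℕ, p.Prime ∧ 1 ≤ d ∧ Fintype.card F = p ^ d := by
    obtain ⟨n, hp, hn⟩ := FiniteField.card F (ringChar F)
    exact ⟨_, _, hp, n.2, hn⟩
  haveI := Fact.mk hp
  haveI : CharP F p := charP_of_card_eq_prime_pow hF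
  letI : Algebra (ZMod p) F := ZMod.algebra F p
  obtain ⟨f⟩ := h.hyp.iso
  have hmodq := h.modq
  rw [hF] at hmodq
  obtain ⟨hdodd, -⟩ := odd_degree hmodq
  have hp2 : p ≠ 2 := fun e => by
    have := Nat.odd_iff.1 h.hyp.odd
    rw [hF, e, Nat.pow_mod, Nat.mod_self, zero_pow (by omega)] at this
    norm_num at this
  have hA : Nat.card (MulAut PG) = 2 * d * Nat.card ↥E₀ := by
    rw [Cfsg.Agent.S0813.result p d hd hF 2 le_rfl (fun _ => by
        have := h.five
        omega),
      if_pos rfl, one_mul, Cfsg.Lib.Classical.card_PGL, Cfsg.Lib.Classical.SLTwoTori.card_SL2, ← h.card_E₀]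
    ring
  set H := (h.actP f).range with hH
  set m := M.index * E₀.relIndex E with hm
  have hE : Nat.card ↥E = Nat.card ↥E₀ * E₀.relIndex E := by
    rw [← Nat.card_congr (subgroupOfEquivOfLe h.hyp.le).toEquiv]
    exact (card_mul_index _).symm
  have hHc : Nat.card ↥H = Nat.card ↥(Cfsg.Inn PG) * m := by
    have h1 : Nat.card ↥H = Nat.card ↥h.act.range := by
      rw [hH, JR.actP, MonoidHom.range_comp]
      exact card_map_of_injective (MulAut.congr f).injective
    rw [h1, h.card_act, h.card_inn, hm, hE]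
    ring
  have hmo : Odd m := h.odd.mul h.odd_relIndex
  have hmd : m ∣ d := by
    have h1 := card_subgroup_dvd_card H
    rw [hHc, hA, h.card_inn, mul_comm (2 * d)] at h1
    exact (Nat.coprime_two_right.2 hmo).dvd_of_dvd_mul_left (Nat.dvd_of_mul_dvd_mul_left Nat.card_pos h1)
  suffices hm1 : m = 1 by
    have h1 := Nat.eq_one_of_mul_eq_one_right hm1
    have h2 := Nat.eq_one_of_mul_eq_one_left hm1
    exact ⟨h1, le_antisymm h.hyp.le (relIndex_eq_one.1 h2)⟩
  by_contra hm1
  obtain ⟨r₀, hr₀, hr₀m⟩ := Nat.exists_prime_and_dvd hm1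
  have hI : Cfsg.Inn PG ≤ H := by
    rintro _ ⟨z, rfl⟩
    exact ⟨_, h.actP_emb f z⟩
  -- every prime dividing `m` avoids the order of the linear fractional group
  have key : ∀ r, r.Prime → r ∣ m → r ∣ d ∧ r ≠ p ∧ ¬ r ∣ Nat.card ↥E₀ := by
    intro r hr hrm
    haveI := Fact.mk hr
    have hr2 : r ≠ 2 := fun e => Nat.not_even_iff_odd.2 hmo (even_iff_two_dvd.2 (e ▸ hrm))
    obtain ⟨hrd, σ, hσ, c, hc⟩ := exists_field_mem hd hF (hF ▸ h.hyp.odd) H hI hHc hmo hr hrm
    have hd3 : 3 ≤ d := le_trans (by have := hr.two_le; omega) (Nat.le_of_dvd (by omega) hrd)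
    have hbig : 13 ≤ Fintype.card F := by
      rw [hF]
      exact le_trans (by norm_num : 13 ≤ 3 ^ 3) (le_trans (Nat.pow_le_pow_left (by have := hp.two_le; omega) 3)
        (Nat.pow_le_pow_right hp.pos hd3))
    have hσ1 : σ ≠ 1 := fun e => by rw [e, orderOf_one] at hσ; exact hr.one_lt.ne hσ
    have hsact : h.actP f (c ^ (r + 1)) = fieldAut p σ := by
      rw [map_pow, hc, ← map_pow, pow_succ, show σ ^ r = 1 by rw [← hσ, pow_orderOf_eq_one], one_mul]
    have hcr : ((c ^ r : ↥(centralizer ({(t : G)} : Set G))) : G) = 1 ∨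
        ((c ^ r : ↥(centralizer ({(t : G)} : Set G))) : G) = t := by
      refine h.ker_cases ((MulAut.congr f).injective ?_)
      show h.actP f (c ^ r) = (MulAut.congr f) 1
      rw [map_pow, hc, ← map_pow, show σ ^ r = 1 by rw [← hσ, pow_orderOf_eq_one], map_one, map_one]
    have hsr : orderOf ((c ^ (r + 1) : ↥(centralizer ({(t : G)} : Set G))) : G) = r := by
      refine orderOf_eq_prime ?_ fun e => ?_
      · obtain ⟨j, hj⟩ : Even (r + 1) := (hr.odd_of_ne_two hr2).add_one
        have htt : (t : G) * (t : G) = 1 := congrArg Subtype.val h.hyp.tt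
        push_cast at hcr ⊢
        rw [← pow_mul, mul_comm, pow_mul, hj, ← two_mul, pow_mul, pow_two]
        rcases hcr with e | e <;> rw [e]
        · rw [one_mul, one_pow]
        · rw [htt, one_pow]
      · rw [show c ^ (r + 1) = 1 from Subtype.ext e, map_one] at hsact
        exact hσ1 ((inner_imp p (a := 1) (g := 1) (by rw [map_one, one_mul, map_one, ← hsact])).1)
    have hrp : r ≠ p := fun e => hσ1 (h.ne_char f (by omega) hF (c ^ (r + 1)) σ hsact (hsr.trans e))
    exact ⟨hrd, hrp, h.not_dvd f hF hbig hr hr2 hrp hrd _ σ hsact hsr hσ⟩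
  obtain ⟨hr₀d, -, hr₀E⟩ := key r₀ hr₀ hr₀m
  have hd3 : 3 ≤ d := by
    have hle := Nat.le_of_dvd (by omega) hr₀d
    have := hr₀.two_le
    obtain ⟨j, hj⟩ := hdodd
    omega
  -- transitivity on the subgroups of each order
  set U := ((u (F := F)).range).map (emb (G := G) f) with hU
  set N := centralizer ({(t : G)} : Set G) ⊓ normalizer (U : Set G) with hN
  have hUN : U ≤ N := le_inf (by rintro _ ⟨w, -, rfl⟩; exact h.emb_comm f w) le_normalizer
  haveI : (U.subgroupOf N).Normal := normal_subgroupOf_of_le_normalizer inf_le_right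
  have hUc : Nat.card ↥(U.subgroupOf N) = p ^ d := by
    rw [Nat.card_congr (subgroupOfEquivOfLe hUN).toEquiv, hU, card_map_of_injective (emb_injective f),
      Nat.card_congr (MonoidHom.ofInjective (u_injective (F := F))).toEquiv.symm,
      Nat.card_congr Multiplicative.toAdd, Nat.card_eq_fintype_card, hF]
  have hidx : ¬ p ∣ (U.subgroupOf N).index := by
    intro hdvd
    have h1 : p ^ d * p ∣ Nat.card ↥(centralizer ({(t : G)} : Set G)) := by
      refine Dvd.dvd.trans ?_ (card_dvd_of_le (inf_le_left : N ≤ centralizer ({(t : G)} : Set G)))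
      rw [← (U.subgroupOf N).card_mul_index, hUc]
      exact Nat.mul_dvd_mul_left _ hdvd
    have h2 : Nat.card ↥(centralizer ({(t : G)} : Set G)) = p ^ d * ((Fintype.card F ^ 2 - 1) * m) := by
      rw [← h.act.ker.card_mul_index, h.card_ker, index_ker, h.card_act, hE, hm,
        show 2 * (M.index * (Nat.card ↥E₀ * E₀.relIndex E)) = 2 * Nat.card ↥E₀ * (M.index * E₀.relIndex E) by ring,
        h.card_E₀, hF]
      ring
    rw [h2] at h1
    rcases hp.dvd_mul.1 (Nat.dvd_of_mul_dvd_mul_left (pow_pos hp.pos d) h1) with h3 | h3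
    · rw [hF] at h3
      have h4 : p ∣ (p ^ d) ^ 2 := dvd_pow (dvd_pow_self p (by omega)) two_ne_zero
      have h5 := Nat.dvd_sub h4 h3
      rw [Nat.sub_sub_self (Nat.one_le_pow _ _ (pow_pos hp.pos d)), Nat.dvd_one] at h5
      exact hp.ne_one h5
    · exact (key p hp h3).2.1 rfl
  haveI hsolv : Group.IsSolvable ↥N := by
    let π₁ : ↥N →* Cfsg.Out PG :=
      (QuotientGroup.mk' (Cfsg.Inn PG)).comp ((h.actP f).comp (Subgroup.inclusion inf_le_left))
    haveI : Group.IsSolvable π₁.range := by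
      refine Cfsg.Agent.PF.isSolvable_of_odd _ ?_
      have h1 : π₁.range ≤ H.map (QuotientGroup.mk' (Cfsg.Inn PG)) := by
        rintro _ ⟨n, rfl⟩
        exact ⟨_, ⟨_, rfl⟩, rfl⟩
      refine hmo.of_dvd_nat ((card_dvd_of_le h1).trans ?_)
      have h2 : (H.map (QuotientGroup.mk' (Cfsg.Inn PG))).comap (QuotientGroup.mk' (Cfsg.Inn PG)) = H := by
        rw [comap_map_eq, QuotientGroup.ker_mk', sup_eq_left.2 hI]
      have h3 := card_comap_mk (Cfsg.Inn PG) (H.map (QuotientGroup.mk' (Cfsg.Inn PG)))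
      rw [h2, hHc, mul_comm (Nat.card ↥(H.map _))] at h3
      exact (Nat.eq_of_mul_eq_mul_left Nat.card_pos h3).symm.dvd
    haveI : Group.IsSolvable π₁.ker := by
      have hinn : ∀ n : ↥π₁.ker, h.actP f (Subgroup.inclusion inf_le_left (n : ↥N)) ∈ Cfsg.Inn PG := fun n =>
        (QuotientGroup.eq_one_iff _).1 (MonoidHom.mem_ker.1 n.2)
      let ψ : ↥π₁.ker →* ↥(Cfsg.Inn PG) :=
        (((h.actP f).comp (Subgroup.inclusion inf_le_left)).comp π₁.ker.subtype).codRestrict _ hinn
      haveI : Group.IsSolvable ψ.ker := Group.isSolvable_of_comm fun a b => by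
        have hk : ∀ a : ↥ψ.ker, (((a : ↥π₁.ker) : ↥N) : G) = 1 ∨ (((a : ↥π₁.ker) : ↥N) : G) = t := fun a =>
          h.ker_cases (c := Subgroup.inclusion inf_le_left ((a : ↥π₁.ker) : ↥N))
            ((MulAut.congr f).injective
              ((congrArg Subtype.val (MonoidHom.mem_ker.1 a.2)).trans (map_one (MulAut.congr f)).symm))
        refine Subtype.ext (Subtype.ext (Subtype.ext ?_))
        show (((a : ↥π₁.ker) : ↥N) : G) * (((b : ↥π₁.ker) : ↥N) : G) =
          (((b : ↥π₁.ker) : ↥N) : G) * (((a : ↥π₁.ker) : ↥N) : G)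
        rcases hk a with e | e <;> rcases hk b with e' | e' <;> rw [e, e'] <;> simp
      haveI : Group.IsSolvable ψ.range := by
        obtain ⟨U₀, hU₀⟩ := exists_sylow_u (F := F) p hd hF
        haveI := psl_normalizer_solvable hp hd hF U₀
        set W : Subgroup ↥(Cfsg.Inn PG) := ((normalizer ((U₀ : Subgroup PG) : Set PG)).map
          (MulAut.conj : PG →* MulAut PG)).subgroupOf (Cfsg.Inn PG) with hW
        haveI : Group.IsSolvable W := by
          haveI : Group.IsSolvable ((normalizer ((U₀ : Subgroup PG) : Set PG)).map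
              (MulAut.conj : PG →* MulAut PG)) :=
            Group.isSolvable_of_surjective ((MulAut.conj : PG →* MulAut PG).subgroupMap_surjective _)
          exact Group.isSolvable_of_isSolvable_injective
            (f := (subgroupOfEquivOfLe (by rintro _ ⟨z, -, rfl⟩; exact ⟨z, rfl⟩)).toMonoidHom)
            (MulEquiv.injective _)
        refine GenDihedral.solvable_of_le (K := W) ?_ inferInstance
        rintro _ ⟨n, rfl⟩
        obtain ⟨z, hz⟩ := hinn n
        refine ⟨z, ?_, hz⟩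
        have hmapU : ((U₀ : Subgroup PG)).map (MulAut.conj z).toMonoidHom ≤ (U₀ : Subgroup PG) := by
          rintro _ ⟨_, hw, rfl⟩
          obtain ⟨w, rfl⟩ := hU₀.le hw
          refine hU₀.ge ?_
          have hnU : ((n : ↥N) : G) * emb (G := G) f (u w) * ((n : ↥N) : G)⁻¹ ∈ U :=
            (mem_normalizer_iff.1 (n : ↥N).2.2 _).1 ⟨_, ⟨w, rfl⟩, rfl⟩
          obtain ⟨_, ⟨w', rfl⟩, e⟩ := hnU
          refine ⟨w', emb_injective (G := G) f (e.trans ?_)⟩
          show _ = emb (G := G) f (MulAut.conj z (u w))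
          rw [hz]
          exact h.conj_emb f (Subgroup.inclusion inf_le_left (n : ↥N)) (u w)
        have heq := Subgroup.eq_of_le_of_card_ge hmapU
          (le_of_eq (card_map_of_injective (MulAut.conj z).injective).symm)
        refine mem_normalizer_iff.2 fun w => ⟨fun hw => heq.le ⟨w, hw, rfl⟩, fun hw => ?_⟩
        obtain ⟨w', hw', e⟩ := heq.ge hw
        rwa [← (MulAut.conj z).injective e]
      exact Group.isSolvable_of_ker_le_range ψ.ker.subtype ψ.rangeRestrict (by simp)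
    exact Group.isSolvable_of_ker_le_range π₁.ker.subtype π₁.rangeRestrict (by simp)
  have hcomm : IsMulCommutative ↥(U.subgroupOf N) := ⟨⟨fun a b => by
    obtain ⟨_, ⟨x, rfl⟩, ex⟩ := a.2
    obtain ⟨_, ⟨y, rfl⟩, ey⟩ := b.2
    refine Subtype.ext (Subtype.ext ?_)
    show ((a : ↥N) : G) * ((b : ↥N) : G) = ((b : ↥N) : G) * ((a : ↥N) : G)
    have ex' : emb (G := G) f (u x) = ((a : ↥N) : G) := ex
    have ey' : emb (G := G) f (u y) = ((b : ↥N) : G) := ey
    rw [← ex', ← ey', ← map_mul, ← map_mul, ← map_mul, ← map_mul, mul_comm]⟩⟩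
  have hexp : ∀ a ∈ U.subgroupOf N, a ^ p = 1 := by
    intro a ha
    obtain ⟨_, ⟨x, rfl⟩, ex⟩ := ha
    refine Subtype.ext ?_
    have hx : x ^ p = 1 := Multiplicative.toAdd.injective (by
      rw [toAdd_pow, toAdd_one, nsmul_eq_mul, CharP.cast_eq_zero, zero_mul])
    have ex' : emb (G := G) f (u x) = (a : G) := ex
    rw [SubmonoidClass.coe_pow, ← ex', ← map_pow, ← map_pow, hx, map_one, map_one, coe_one]
  have hfus : ∀ A B : Subgroup ↥N, A ≤ U.subgroupOf N → B ≤ U.subgroupOf N → Nat.card A = Nat.card B →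
      ∃ n : ↥N, ∀ x, x ∈ A ↔ n * x * n⁻¹ ∈ B := by
    intro A B hA' hB' hAB
    obtain ⟨c, hc, hciff⟩ := h.fusion f hF (A := A.map N.subtype) (B := B.map N.subtype)
      (by rintro _ ⟨a, ha, rfl⟩; exact hA' ha) (by rintro _ ⟨b, hb, rfl⟩; exact hB' hb)
      (by rw [card_map_of_injective N.subtype_injective, card_map_of_injective N.subtype_injective, hAB])
    refine ⟨⟨c, hc⟩, fun x => ?_⟩
    have h1 := hciff (x : G)
    rw [show (x : G) = N.subtype x from rfl, mem_map_iff_mem N.subtype_injective] at h1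
    rw [h1]
    exact mem_map_iff_mem N.subtype_injective (K := B) (x := ⟨c, hc⟩ * x * ⟨c, hc⟩⁻¹)
  rcases Cfsg.Lib.EquiTransitive.normalizer_quotient hd3 (U.subgroupOf N) hUc hidx hcomm hexp
    (Group.isSolvable_of_surjective (QuotientGroup.mk'_surjective (Cfsg.pPrimeCore p ↥N))) hfus with
    ⟨hd', -, -⟩ | ⟨-, hp', -⟩
  · subst hd'
    obtain rfl := (Nat.prime_dvd_prime_iff_eq hr₀ Nat.prime_three).1 hr₀d
    apply hr₀E
    refine (Nat.Coprime.dvd_mul_left (by norm_num : Nat.Coprime 3 2)).1 ?_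
    rw [h.card_E₀]
    obtain ⟨k, hk⟩ : ∃ k, Fintype.card F = 3 * k ∨ Fintype.card F = 3 * k + 1 ∨ Fintype.card F = 3 * k + 2 :=
      ⟨Fintype.card F / 3, by omega⟩
    rcases hk with hk | hk | hk
    · exact dvd_mul_of_dvd_left ⟨k, hk⟩ _
    · refine dvd_mul_of_dvd_right ⟨3 * k * k + 2 * k, ?_⟩ _
      rw [hk, show (3 * k + 1) ^ 2 = 3 * (3 * k * k + 2 * k) + 1 by ring, Nat.add_sub_cancel]
    · refine dvd_mul_of_dvd_right ⟨3 * k * k + 4 * k + 1, ?_⟩ _
      rw [hk, show (3 * k + 2) ^ 2 = 3 * (3 * k * k + 4 * k + 1) + 1 by ring, Nat.add_sub_cancel]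
  · exact hp2 hp'

end Cfsg.Lib.EqualOrder
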