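import Cfsg.Agent.EqualOrder.JR.Count
import Cfsg.Agent.Blocks.Feit3
import Cfsg.Agent.Ree.PSL.Main
import Cfsg.Agent.Ree.Section.Main
import Cfsg.Agent.Ree.Torus.Func.Main
import Cfsg.Agent.Ree.Assembly.Main
import Cfsg.Agent.S0076
import Cfsg.Agent.S0448
import Cfsg.Agent.Classical.Misc.SmallPSL

/-!
The socle of Janko-Ree type: only Janko's first group remains.
-/

set_option autoImplicit false
set_option linter.unusedSectionVars false
set_option linter.style.haveILetI false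

namespace Cfsg.Lib.EqualOrder

open Subgroup

universe u

/-- The order in the case `E = E₀`, `q ≥ 11`. -/
theorem ree_order {X : Type u} [Group X] [Finite X] {t : X} {E : Subgroup X} {F : Type} [Field F] [Fintype F]
    (hset : Ree.Setting t E F) :
    ∃ m : ℕ, 1 ≤ m ∧ Fintype.card F = 3 ^ (2 * m + 1) ∧
      Nat.card X = (3 ^ (2 * m + 1)) ^ 3 * ((3 ^ (2 * m + 1)) ^ 3 + 1) * (3 ^ (2 * m + 1) - 1) := by
  classical
  haveI := Fintype.ofFinite X
  haveI := Fintype.ofFinite ↥E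
  obtain ⟨Tb⟩ := Ree.pslSpec F ↥E hset.mod hset.big hset.hyp.iso
  obtain ⟨I, hI⟩ := Blocks.exists_isPModular Nat.prime_two
  obtain ⟨SF, SB, ⟨R⟩⟩ := Ree.sectSpec X t E F hset Tb I hI
  obtain ⟨TF⟩ := Ree.torusSpec X t E F hset Tb SF
  exact Ree.assemblySpec X t E F hset Tb I hI SF SB R TF

/-- An orbit pair covers the non-trivial elements of an abelian Sylow subgroup. -/
theorem card_pred_dvd {G : Type u} [Group G] [Finite G] (h : PEqConj G) {r : ℕ} [Fact r.Prime] (hr : r = 3)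
    (R : Sylow r G) (hel : Cfsg.IsElementaryAbelian r (R : Subgroup G)) (hR1 : (R : Subgroup G) ≠ ⊥) :
    Nat.card ↥(R : Subgroup G) - 1 ∣ 2 * Nat.card G := by
  classical
  subst hr
  obtain ⟨x, hx, hx1⟩ := (R : Subgroup G).bot_or_exists_ne_one.resolve_left hR1
  set N := normalizer ((R : Subgroup G) : Set G) with hN
  have hfuse : ∀ y ∈ (R : Subgroup G), y ≠ 1 → ∃ m ∈ N, m * x * m⁻¹ = y ∨ m * x⁻¹ * m⁻¹ = y := by
    intro y hy hy1
    have ho : ∀ z ∈ (R : Subgroup G), z ≠ 1 → orderOf z = 3 := fun z hz hz1 => orderOf_eq_prime (hel.2 z hz) hz1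
    have hinv : ∀ (W : Subgroup G), W ≤ (R : Subgroup G) → ∀ a ∈ R, (fun z => a * z * a⁻¹) '' (W : Set G) = W := by
      intro W hW a ha
      have hid : ∀ z ∈ W, a * z * a⁻¹ = z := fun z hz =>
        mul_inv_eq_iff_eq_mul.2 (congrArg Subtype.val (hel.1.is_comm.comm ⟨a, ha⟩ ⟨z, hW hz⟩))
      ext z
      constructor
      · rintro ⟨w, hw, rfl⟩
        show a * w * a⁻¹ ∈ W
        rw [hid w hw]; exact hw
      · exact fun hz => ⟨z, hz, hid z hz⟩
    obtain ⟨g, hg⟩ := h 3 Fact.out (zpowers x) (zpowers y)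
      (IsPGroup.of_card (n := 1) (by rw [Nat.card_zpowers, ho x hx hx1, pow_one]))
      (IsPGroup.of_card (n := 1) (by rw [Nat.card_zpowers, ho y hy hy1, pow_one]))
      (by rw [Nat.card_zpowers, Nat.card_zpowers, ho x hx hx1, ho y hy hy1])
    obtain ⟨m, hm, hme⟩ := Cfsg.Agent.S0076.result R (zpowers x : Set G) (zpowers y : Set G)
      (zpowers_le.2 hx) (zpowers_le.2 hy) (hinv _ (zpowers_le.2 hx)) (hinv _ (zpowers_le.2 hy)) g (by rw [hg]; rfl)
    obtain ⟨z, hz, e⟩ := hme.ge (mem_zpowers y)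
    obtain ⟨k, rfl⟩ := mem_zpowers_iff.1 hz
    refine ⟨m, hm, ?_⟩
    have hx3 : x ^ (3 : ℤ) = 1 := by
      rw [show (3 : ℤ) = ((3 : ℕ) : ℤ) by norm_num, zpow_natCast]; exact hel.2 x hx
    have hk : x ^ k = x ^ (k % 3) := by
      conv_lhs => rw [← Int.emod_add_mul_ediv k 3, zpow_add, zpow_mul, hx3, one_zpow, mul_one]
    have h3 : k % 3 = 0 ∨ k % 3 = 1 ∨ k % 3 = 2 := by omega
    rcases h3 with h3 | h3 | h3
    · exfalso
      simp only [hk, h3, zpow_zero, mul_one, mul_inv_cancel] at e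
      exact hy1 e.symm
    · left; simpa [hk, h3] using e
    · right
      have hxi : x ^ (2 : ℤ) = x⁻¹ := by
        rw [eq_inv_iff_mul_eq_one, ← zpow_add_one]; exact hx3
      simpa [hk, h3, hxi] using e
  letI : MulAction ↥N G := MulAction.compHom G ((ConjAct.toConjAct (G := G)).toMonoidHom.comp N.subtype)
  have hsmul : ∀ (m : ↥N) (z : G), m • z = (m : G) * z * (m : G)⁻¹ := fun m z => ConjAct.toConjAct_smul _ _
  have hset : ((R : Subgroup G) : Set G) \ {1} = MulAction.orbit ↥N x ∪ MulAction.orbit ↥N x⁻¹ := by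
    ext y
    constructor
    · rintro ⟨hy, hy1⟩
      obtain ⟨m, hm, e | e⟩ := hfuse y hy hy1
      · exact Or.inl ⟨⟨m, hm⟩, (hsmul _ _).trans e⟩
      · exact Or.inr ⟨⟨m, hm⟩, (hsmul _ _).trans e⟩
    · rintro (⟨m, rfl⟩ | ⟨m, rfl⟩)
      · refine ⟨?_, fun e => hx1 ?_⟩
        · show m • x ∈ (R : Subgroup G)
          rw [hsmul]; exact (mem_normalizer_iff.1 m.2 x).1 hx
        · have e' : m • x = 1 := e
          rw [hsmul] at e'
          exact conj_eq_one_iff.1 e'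
      · refine ⟨?_, fun e => hx1 ?_⟩
        · show m • x⁻¹ ∈ (R : Subgroup G)
          rw [hsmul]; exact (mem_normalizer_iff.1 m.2 _).1 (inv_mem hx)
        · have e' : m • x⁻¹ = 1 := e
          rw [hsmul] at e'
          exact inv_eq_one.1 (conj_eq_one_iff.1 e')
  have hcardR : (((R : Subgroup G) : Set G) \ {1}).ncard = Nat.card ↥(R : Subgroup G) - 1 := by
    rw [Set.ncard_diff_singleton_of_mem (one_mem (R : Subgroup G)), ← Nat.card_coe_set_eq]
    rfl
  have hdvd : ∀ z : G, (MulAction.orbit ↥N z).ncard ∣ Nat.card G := fun z => by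
    rw [← MulAction.index_stabilizer]
    exact (index_dvd_card _).trans (card_subgroup_dvd_card N)
  rw [hset] at hcardR
  have hinvset : MulAction.orbit ↥N x⁻¹ = (fun z : G => z⁻¹) '' MulAction.orbit ↥N x := by
    ext z
    constructor
    · rintro ⟨m, rfl⟩
      refine ⟨m • x, ⟨m, rfl⟩, ?_⟩
      simp only [hsmul]
      group
    · rintro ⟨_, ⟨m, rfl⟩, rfl⟩
      refine ⟨m, ?_⟩
      simp only [hsmul]
      group
  have hsame : (MulAction.orbit ↥N x⁻¹).ncard = (MulAction.orbit ↥N x).ncard := by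
    rw [hinvset]; exact Set.ncard_image_of_injective _ inv_injective
  by_cases hmem : x⁻¹ ∈ MulAction.orbit ↥N x
  · rw [MulAction.orbit_eq_iff.2 hmem, Set.union_self] at hcardR
    rw [← hcardR]
    exact dvd_mul_of_dvd_right (hdvd x) 2
  · rw [Set.ncard_union_eq ?_ (Set.toFinite _) (Set.toFinite _), hsame, ← two_mul] at hcardR
    · rw [← hcardR]
      exact Nat.mul_dvd_mul_left 2 (hdvd x)
    · rw [Set.disjoint_left]
      intro z hz1 hz2
      exact hmem (MulAction.orbit_eq_iff.1 ((MulAction.orbit_eq_iff.2 hz2).symm.trans (MulAction.orbit_eq_iff.2 hz1)))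

/-- The arithmetic kill. -/
theorem ree_arith {n : ℕ} (hn : 1 ≤ n) {Q : ℕ} (hQ : Q = 3 ^ n) :
    ¬ Q ^ 3 - 1 ∣ 2 * (Q ^ 3 * (Q ^ 3 + 1) * (Q - 1)) := by
  intro hd
  have hQ3 : 3 ≤ Q := by rw [hQ]; exact Nat.le_self_pow (by omega) 3
  set w := Q ^ 2 + Q + 1 with hw
  have hfac : Q ^ 3 - 1 = (Q - 1) * w := by
    obtain ⟨s, rfl⟩ : ∃ s, Q = s + 1 := ⟨Q - 1, by omega⟩
    rw [Nat.add_sub_cancel, hw, show (s + 1) ^ 3 = s * ((s + 1) ^ 2 + (s + 1) + 1) + 1 by ring, Nat.add_sub_cancel]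
  rw [hfac, show 2 * (Q ^ 3 * (Q ^ 3 + 1) * (Q - 1)) = (Q - 1) * (2 * (Q ^ 3 * (Q ^ 3 + 1))) by ring] at hd
  have h1 : w ∣ 2 * (Q ^ 3 * (Q ^ 3 + 1)) := Nat.dvd_of_mul_dvd_mul_left (by omega) hd
  have hwodd : Odd w := by
    obtain ⟨j, hj⟩ := Nat.even_mul_succ_self Q
    exact ⟨j, by rw [hw, show Q ^ 2 + Q = Q * (Q + 1) by ring, hj]; ring⟩
  have h2 : w ∣ Q ^ 3 * (Q ^ 3 + 1) := (Nat.coprime_two_right.2 hwodd).dvd_of_dvd_mul_left h1
  have hcQ : Nat.Coprime w (Q ^ 3) := by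
    refine Nat.Coprime.pow_right 3 ?_
    rw [hw, show Q ^ 2 + Q + 1 = 1 + Q * (Q + 1) by ring, Nat.coprime_add_mul_left_left]
    exact Nat.coprime_one_left Q
  have h3 : w ∣ Q ^ 3 + 1 := hcQ.dvd_of_dvd_mul_left h2
  have h4 : w ∣ Q ^ 3 - 1 := hfac ▸ dvd_mul_left w _
  have h5 : w ∣ 2 := by
    have := Nat.dvd_sub h3 h4
    have h6 : 1 ≤ Q ^ 3 := Nat.one_le_pow _ _ (by omega)
    rwa [show Q ^ 3 + 1 - (Q ^ 3 - 1) = 2 by omega] at this
  have := Nat.le_of_dvd two_pos h5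
  nlinarith

variable {G : Type u} [Group G] [Finite G] {M : Subgroup G} [M.Normal] {t : ↥M} {E E₀ : Subgroup ↥M}
  {F : Type} [Field F] [Fintype F] (h : JR M t E E₀ F)
include h

theorem JR.five_eq : Fintype.card F = 5 := by
  classical
  by_contra h5
  obtain ⟨hi, hE⟩ := h.index_eq_one
  subst hE
  have hbig : 11 ≤ Fintype.card F := by
    rcases h.modq with hm | hm <;> have := h.five <;> omega
  obtain ⟨m, hm, hF, hcard⟩ := ree_order (t := t) (E := E₀)
    ⟨h.simple, h.nab, h.ab, h.hyp, h.modq, hbig⟩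
  set n := 2 * m + 1 with hn
  haveI : Fact (Nat.Prime 3) := ⟨Nat.prime_three⟩
  haveI : CharP F 3 := charP_of_card_eq_prime_pow hF
  obtain ⟨f⟩ := h.hyp.iso
  have hU : IsPGroup 3 ↥(((Cfsg.Lib.Known.AutPSL2.u (F := F)).range).map (emb (G := G) f)) := by
    refine IsPGroup.of_card (n := n) ?_
    rw [card_map_of_injective (emb_injective f),
      Nat.card_congr (MonoidHom.ofInjective (Cfsg.Lib.Known.AutPSL2.u_injective (F := F))).toEquiv.symm,
      Nat.card_congr Multiplicative.toAdd, Nat.card_eq_fintype_card, hF]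
  obtain ⟨R, hR⟩ := hU.exists_le_sylow
  have hel := h.sylow_elem f (by omega) hF R hR
  have hG : Nat.card G = (3 ^ n) ^ 3 * ((3 ^ n) ^ 3 + 1) * (3 ^ n - 1) := by
    rw [← M.card_mul_index, hi, mul_one, hcard]
  obtain ⟨e, he⟩ := IsPGroup.iff_card.1 R.2
  have he3 : e = n * 3 := by
    have h1 : 3 ^ (n * 3) ∣ Nat.card ↥(R : Subgroup G) := R.pow_dvd_card_of_pow_dvd_card (by
      rw [hG, pow_mul]; exact dvd_mul_of_dvd_left (dvd_mul_right _ _) _)
    rw [he] at h1
    have h2 := card_subgroup_dvd_card (R : Subgroup G)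
    rw [he, hG] at h2
    have hc1 : Nat.Coprime (3 ^ e) ((3 ^ n) ^ 3 + 1) := Nat.Coprime.pow_left e
      ((Nat.prime_three.coprime_iff_not_dvd).2 fun hd => by
        have h7 : 3 ∣ (3 ^ n) ^ 3 := dvd_pow (dvd_pow_self 3 (by omega)) (by norm_num)
        have := (Nat.dvd_add_right h7).1 hd
        norm_num at this)
    have hc2 : Nat.Coprime (3 ^ e) (3 ^ n - 1) := Nat.Coprime.pow_left e
      ((Nat.prime_three.coprime_iff_not_dvd).2 fun hd => by
        have h7 : 3 ∣ 3 ^ n := dvd_pow_self 3 (by omega)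
        have := Nat.dvd_sub h7 hd
        rw [Nat.sub_sub_self (Nat.one_le_pow _ _ (by norm_num))] at this
        norm_num at this)
    have h3 := hc1.dvd_of_dvd_mul_right (hc2.dvd_of_dvd_mul_right h2)
    rw [← pow_mul] at h3
    exact le_antisymm ((Nat.pow_dvd_pow_iff_le_right (by norm_num)).1 h3)
      ((Nat.pow_dvd_pow_iff_le_right (by norm_num)).1 h1)
  have hd := card_pred_dvd h.dp rfl R hel fun hb => by
    rw [hb, card_bot] at he
    have := (Nat.pow_right_injective (le_of_lt (by norm_num : (2 : ℕ) < 3))) (show 3 ^ e = 3 ^ 0 by rw [pow_zero]; exact he.symm)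
    omega
  rw [he, he3, pow_mul, hG] at hd
  exact ree_arith (n := n) (by omega) rfl hd

theorem JR.isJ1 : Cfsg.IsJ1 G := by
  classical
  haveI : Fact (Nat.Prime 2) := ⟨Nat.prime_two⟩
  haveI := h.simple
  have h5 := h.five_eq
  obtain ⟨hi, hE⟩ := h.index_eq_one
  subst hE
  obtain ⟨f⟩ := h.hyp.iso
  obtain ⟨g⟩ := Cfsg.Lib.Classical.SmallPSL.psl_five h5
  set C := centralizer ({t} : Set ↥M) with hC
  have htC : t ∈ C := mem_centralizer_singleton_iff.2 rfl
  have hEC : E₀ ≤ C := fun x hx => mem_centralizer_singleton_iff.2 (h.hyp.comm x hx).eq.symm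
  set tC : ↥C := ⟨t, htC⟩ with htC'
  have ho : orderOf tC = 2 := by rw [htC', Subgroup.orderOf_mk]; exact h.hyp.ord
  let a : Multiplicative (ZMod 2) →* ↥C := MonoidHom.mk' (fun b => tC ^ (Multiplicative.toAdd b).val) fun b c => by
    show tC ^ (Multiplicative.toAdd b + Multiplicative.toAdd c).val = _
    rw [← pow_add, ZMod.val_add, ← pow_mod_orderOf tC ((Multiplicative.toAdd b).val + (Multiplicative.toAdd c).val), ho]
  let b : alternatingGroup (Fin 5) →* ↥C := (Subgroup.inclusion hEC).comp (g.symm.trans f.symm).toMonoidHom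
  have hab : ∀ m n, Commute (a m) (b n) := fun m n => by
    refine Commute.pow_left (Subtype.ext ?_) _
    exact (h.hyp.comm _ ((g.symm.trans f.symm) n).2).eq
  let ψ : Multiplicative (ZMod 2) × alternatingGroup (Fin 5) →* ↥C := a.noncommCoprod b hab
  have hψ : Function.Surjective ψ := by
    rintro ⟨x, hx⟩
    obtain ⟨e, he, r | r⟩ := h.hyp.split x (mem_centralizer_singleton_iff.1 hx)
    · refine ⟨(1, g (f ⟨e, he⟩)), ?_⟩
      show a 1 * b (g (f ⟨e, he⟩)) = _
      rw [map_one, one_mul]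
      exact Subtype.ext (by simp [b, r])
    · refine ⟨(Multiplicative.ofAdd 1, g (f ⟨e, he⟩)), ?_⟩
      show tC ^ (1 : ZMod 2).val * b (g (f ⟨e, he⟩)) = _
      rw [ZMod.val_one, pow_one]
      exact Subtype.ext (by simp [b, htC', r])
  have hbij : Function.Bijective ψ := (Nat.bijective_iff_surjective_and_card ψ).2 ⟨hψ, by
    rw [h.card_cent, Nat.card_prod, Nat.card_congr Multiplicative.toAdd, Nat.card_zmod,
      Nat.card_congr (g.symm.trans f.symm).toEquiv]⟩
  have htc : Cfsg.IsTwoCentralInvolution t := by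
    obtain ⟨T, hT⟩ := (IsPGroup.of_card (G := ↥(zpowers t)) (p := 2) (n := 1)
      (by rw [Nat.card_zpowers, h.hyp.ord, pow_one])).exists_le_sylow
    exact ⟨h.hyp.ord, T, hT (mem_zpowers t), fun x hx => congrArg (fun z : ↥(T : Subgroup ↥M) => (z : ↥M))
      ((h.ab T).is_comm.comm ⟨x, hx⟩ ⟨t, hT (mem_zpowers t)⟩)⟩
  obtain ⟨hs, hc⟩ := Cfsg.Agent.S0448.result t htc (MulEquiv.ofBijective ψ hbij).symm
  have e : ↥M ≃* G := (MulEquiv.subgroupCongr (Subgroup.index_eq_one.1 hi)).trans Subgroup.topEquiv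
  haveI : Nontrivial G := e.symm.toEquiv.nontrivial
  exact ⟨IsSimpleGroup.isSimpleGroup_of_surjective e.toMonoidHom e.surjective,
    (Nat.card_congr e.toEquiv).symm.trans hc⟩

end Cfsg.Lib.EqualOrder
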